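import Mathlib
import Cfsg.Agent.Lib.Blocks.LocalRing
import Cfsg.Agent.Lib.CharTheory.SubsectionOdd.Main

/-!
# Integral polynomials in roots of unity of prime power order at `M`

`p` is totally ramified in the ring generated by a root of unity of `p`-power order: divisibility
by a power of `p` in the local ring at one maximal ideal is divisibility in the ring.
-/

set_option linter.style.haveILetI false
set_option linter.unusedSectionVars false

namespace Cfsg.Agent.CharTheory.MajorContrib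

open Cfsg.Agent.Blocks Polynomial
open scoped ComplexConjugate

variable {p : ℕ} {M : Ideal Cfsg.AlgInt}

/-- Reduction modulo the cyclotomic polynomial does not change the values at primitive roots. -/
theorem aeval_modByMonic {n : ℕ} (hn : 0 < n) {μ : ℂ} (hμ : IsPrimitiveRoot μ n) (P : ℤ[X]) :
    aeval μ (P %ₘ cyclotomic n ℤ) = aeval μ P := by
  refine modByMonic_eq_sub_mul_div P (cyclotomic n ℤ) ▸ ?_
  rw [map_sub, map_mul]
  have h0 : aeval μ (cyclotomic n ℤ) = 0 := by
    rw [aeval_def, eval₂_eq_eval_map, map_cyclotomic]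
    exact hμ.isRoot_cyclotomic hn
  rw [h0, zero_mul, sub_zero]

theorem natDegree_modByMonic_lt_totient {n : ℕ} (hn : 0 < n) (P : ℤ[X]) :
    (P %ₘ cyclotomic n ℤ).natDegree < n.totient := by
  have h := natDegree_modByMonic_lt P (cyclotomic.monic n ℤ) (fun h => by
    have := congrArg natDegree h
    rw [natDegree_cyclotomic, natDegree_one] at this
    exact (Nat.totient_pos.2 hn).ne' this)
  rwa [natDegree_cyclotomic] at h

/-- `p` is a multiple of `(ζ - 1) ^ φ`. -/
theorem exists_natCast_eq_pow_totient (hM : Cfsg.IsPModular p M) {k : ℕ} (hk : k ≠ 0) {ζ : ℂ}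
    (hζ : IsPrimitiveRoot ζ (p ^ k)) :
    ∃ v : ℂ, Cfsg.MemLocalRing M v ∧ (p : ℂ) = (ζ - 1) ^ (p ^ k).totient * v := by
  haveI := fact_prime_of_pm hM
  obtain ⟨k, rfl⟩ := Nat.exists_eq_succ_of_ne_zero hk
  have hq0 : p ^ (k + 1) ≠ 0 := pow_ne_zero _ hM.1.ne_zero
  have hq : NeZero (p ^ (k + 1)) := ⟨hq0⟩
  have hex : ∀ μ : ℂ, ∃ w : ℂ, μ ∈ primitiveRoots (p ^ (k + 1)) ℂ →
      Cfsg.MemLocalRing M w ∧ 1 - μ = (ζ - 1) * w := by
    intro μ
    by_cases hμ : μ ∈ primitiveRoots (p ^ (k + 1)) ℂ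
    · obtain ⟨i, -, rfl⟩ := hζ.eq_pow_of_pow_eq_one
        ((mem_primitiveRoots (Nat.pos_of_ne_zero hq0)).1 hμ).pow_eq_one
      refine ⟨-∑ j ∈ Finset.range i, ζ ^ j, fun _ => ⟨ring_neg hM (ring_sum hM fun j _ =>
        ring_pow hM (ring_of_pow_eq_one hM hq0 hζ.pow_eq_one) j), ?_⟩⟩
      rw [mul_neg, mul_comm, geom_sum_mul]
      ring
    · exact ⟨0, fun h => absurd h hμ⟩
  choose w hw using hex
  refine ⟨∏ μ ∈ primitiveRoots (p ^ (k + 1)) ℂ, w μ, ?_, ?_⟩
  · exact Finset.prod_induction w (Cfsg.MemLocalRing M) (fun a b => ring_mul hM) (ring_one hM)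
      fun μ hμ => (hw μ hμ).1
  · rw [← eval_one_cyclotomic_prime_pow (R := ℂ) (p := p) k,
      cyclotomic_eq_prod_X_sub_primitiveRoots hζ, eval_prod,
      Finset.prod_congr rfl fun μ hμ => show (X - C μ).eval 1 = (ζ - 1) * w μ by
        rw [eval_sub, eval_X, eval_C]; exact (hw μ hμ).2,
      Finset.prod_mul_distrib, Finset.prod_const, hζ.card_primitiveRoots]

/-- Divisibility by `p` at `M` is divisibility by `p`. -/
theorem exists_div (hM : Cfsg.IsPModular p M) {k : ℕ} {ζ : ℂ} (hζ : IsPrimitiveRoot ζ (p ^ k))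
    (P : ℤ[X]) (hr : Cfsg.MemLocalRing M (aeval ζ P / (p : ℂ))) :
    ∃ Q : ℤ[X], ∀ μ : ℂ, IsPrimitiveRoot μ (p ^ k) → aeval μ P = (p : ℂ) * aeval μ Q := by
  have hn : 0 < p ^ k := pow_pos hM.1.pos k
  have hp0 : (p : ℂ) ≠ 0 := Nat.cast_ne_zero.2 hM.1.ne_zero
  set R := P %ₘ cyclotomic (p ^ k) ℤ with hR
  set S := R.comp (X + C 1) with hS
  set φ := (p ^ k).totient with hφ
  have hdeg : S.natDegree < φ := by
    rw [hS, natDegree_comp, natDegree_X_add_C, mul_one]
    exact natDegree_modByMonic_lt_totient hn P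
  set π := ζ - 1 with hπ
  have hπI : Cfsg.MemLocalIdeal M π :=
    cong_one_of_pow_prime_pow hM (k := k) hζ.pow_eq_one
  have hπr := memLocalRing_of_ideal hπI
  have hval : aeval ζ P = ∑ i ∈ Finset.range φ, (S.coeff i : ℂ) * π ^ i := by
    rw [← aeval_modByMonic hn hζ P, ← hR,
      show aeval ζ R = aeval π S by simp [hS, hπ, aeval_comp],
      aeval_eq_sum_range' hdeg]
    simp [zsmul_eq_mul]
  have hdvd : ∀ i, (p : ℤ) ∣ S.coeff i := by
    intro i
    induction i using Nat.strong_induction_on with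
    | _ i ih =>
      rcases lt_or_ge i φ with hi | hi
      swap
      · rw [coeff_eq_zero_of_natDegree_lt (hdeg.trans_le hi)]; exact dvd_zero _
      rw [← ideal_intCast_iff hM]
      rcases Nat.eq_zero_or_pos k with hk | hk
      · have h1 : φ = 1 := by rw [hφ, hk, pow_zero, Nat.totient_one]
        obtain rfl : i = 0 := by omega
        rw [h1, Finset.sum_range_one, pow_zero, mul_one] at hval
        rw [hval] at hr
        have := ideal_mul_left hM hr (ideal_p hM)
        rwa [div_mul_cancel₀ _ hp0] at this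
      obtain ⟨v, hv, hpv⟩ := exists_natCast_eq_pow_totient hM hk.ne' hζ
      have hπ0 : π ≠ 0 := fun h => by
        rw [show π ^ φ = 0 by rw [h, zero_pow]; omega, zero_mul] at hpv
        exact hp0 hpv
      choose c hc using fun j (hj : j < i) => ih j hj
      -- everything else is a multiple of `π ^ (i + 1)`
      have key : ∃ w, Cfsg.MemLocalRing M w ∧ (S.coeff i : ℂ) * π ^ i = π ^ (i + 1) * w := by
        refine ⟨π ^ (φ - (i + 1)) * v * (aeval ζ P / p) -
          ∑ j ∈ (Finset.range φ).erase i,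
            if h : j < i then π ^ (φ - (i + 1)) * v * ((c j h : ℂ) * π ^ j)
            else (S.coeff j : ℂ) * π ^ (j - (i + 1)), ?_, ?_⟩
        · refine ring_sub hM (ring_mul hM (ring_mul hM (ring_pow hM hπr _) hv) hr)
            (ring_sum hM fun j _ => ?_)
          split
          · exact ring_mul hM (ring_mul hM (ring_pow hM hπr _) hv)
              (ring_mul hM (ring_intCast hM _) (ring_pow hM hπr _))
          · exact ring_mul hM (ring_intCast hM _) (ring_pow hM hπr _)
        · have hφp : π ^ (i + 1) * (π ^ (φ - (i + 1)) * v) = (p : ℂ) := by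
            rw [← mul_assoc, ← pow_add, Nat.add_sub_cancel' (by omega), hpv]
          rw [mul_sub, ← mul_assoc, ← mul_assoc, mul_assoc (π ^ (i+1)), hφp, mul_div_cancel₀ _ hp0,
            hval, ← Finset.add_sum_erase _ _ (Finset.mem_range.2 hi), Finset.mul_sum,
            eq_comm, add_sub_assoc, add_eq_left, sub_eq_zero]
          refine Finset.sum_congr rfl fun j hj => ?_
          have hji := (Finset.mem_erase.1 hj).1
          split
          · next h =>
            rw [hc j h, Int.cast_mul, Int.cast_natCast, ← hφp]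
            ring
          · rw [mul_left_comm, ← pow_add, Nat.add_sub_cancel' (by omega)]
      obtain ⟨w, hw, he⟩ := key
      rw [pow_succ, mul_assoc, mul_comm] at he
      rw [mul_left_cancel₀ (pow_ne_zero i hπ0) he]
      exact ideal_mul_right hM hπI hw
  obtain ⟨S', hS'⟩ := C_dvd_iff_dvd_coeff (p : ℤ) S |>.2 hdvd
  refine ⟨S'.comp (X - C 1), fun μ hμ => ?_⟩
  rw [← aeval_modByMonic hn hμ P, ← hR,
    show aeval μ R = aeval (μ - 1) S by simp [hS, aeval_comp], hS', aeval_comp]
  simp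

/-- Divisibility by a power of `p` at `M` is divisibility by that power. -/
theorem exists_div_pow (hM : Cfsg.IsPModular p M) {k : ℕ} {ζ : ℂ}
    (hζ : IsPrimitiveRoot ζ (p ^ k)) : ∀ (h : ℕ) (P : ℤ[X]),
    Cfsg.MemLocalRing M (aeval ζ P / (p : ℂ) ^ h) →
    ∃ Q : ℤ[X], ∀ μ : ℂ, IsPrimitiveRoot μ (p ^ k) → aeval μ P = (p : ℂ) ^ h * aeval μ Q
  | 0, P, _ => ⟨P, fun μ _ => by simp⟩
  | h + 1, P, hr => by
    have hp0 : (p : ℂ) ≠ 0 := Nat.cast_ne_zero.2 hM.1.ne_zero
    obtain ⟨Q, hQ⟩ := exists_div hM hζ P (by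
      rw [show aeval ζ P / (p : ℂ) = aeval ζ P / (p : ℂ) ^ (h + 1) * (p : ℂ) ^ h by
        rw [pow_succ]; field_simp]
      exact ring_mul hM hr (ring_pow hM (ring_natCast hM p) h))
    obtain ⟨Q', hQ'⟩ := exists_div_pow hM hζ h Q (by
      rw [hQ ζ hζ, pow_succ, mul_comm ((p : ℂ) ^ h), mul_div_mul_left _ _ hp0] at hr
      exact hr)
    exact ⟨Q', fun μ hμ => by rw [hQ μ hμ, hQ' μ hμ, pow_succ]; ring⟩

/-- Values at roots of unity of `p`-power order are congruent to the sum of the coefficients. -/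
theorem aeval_cong_eval_one (hM : Cfsg.IsPModular p M) {k : ℕ} {μ : ℂ} (hμ : μ ^ (p ^ k) = 1)
    (Q : ℤ[X]) : Cong M (aeval μ Q) ((Q.eval 1 : ℤ) : ℂ) := by
  rw [aeval_eq_sum_range, eval_eq_sum_range, Int.cast_sum]
  refine cong_sum hM fun i _ => ?_
  rw [zsmul_eq_mul, one_pow, Int.cast_mul, Int.cast_one]
  refine cong_mul_left hM (ring_intCast hM _) (cong_one_of_pow_prime_pow hM (k := k) ?_)
  rw [← pow_mul, mul_comm, pow_mul, hμ, one_pow]

/-- The average of a real value: an integer of the parity of the sum of the coefficients. -/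
theorem exists_avg_two (hM : Cfsg.IsPModular 2 M) {k : ℕ} {ζ : ℂ}
    (hζ : IsPrimitiveRoot ζ (2 ^ k)) (Q : ℤ[X])
    (hreal : conj (aeval ζ Q) = aeval ζ Q) :
    ∃ r : ℤ, (∑ μ ∈ primitiveRoots (2 ^ k) ℂ, aeval μ Q =
        ((primitiveRoots (2 ^ k) ℂ).card : ℂ) * (r : ℂ)) ∧
      (Cfsg.MemLocalIdeal M (aeval ζ Q) ↔ (2 : ℤ) ∣ r) := by
  classical
  have hn : 0 < 2 ^ k := pow_pos two_pos k
  set R := Q %ₘ cyclotomic (2 ^ k) ℤ with hR
  set m := (2 ^ k).totient with hm
  have hdeg : R.natDegree < m := natDegree_modByMonic_lt_totient hn Q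
  have hm0 : 0 < m := Nat.totient_pos.2 hn
  have hval : ∀ μ : ℂ, IsPrimitiveRoot μ (2 ^ k) →
      aeval μ Q = ∑ j ∈ Finset.range m, (R.coeff j : ℂ) * μ ^ j := fun μ hμ => by
    rw [← aeval_modByMonic hn hμ Q, ← hR, aeval_eq_sum_range' hdeg]
    simp [zsmul_eq_mul]
  have hsplit : ∀ j, j < m → SubsectionOdd.avgSign (2 ^ k) j = if j = 0 then 1 else 0 := by
    intro j hj
    rcases eq_or_ne j 0 with rfl | hj0
    · simp [SubsectionOdd.avgSign]
    have hk : 2 * m ≤ 2 ^ k := by
      rcases k with _ | k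
      · simp only [hm, pow_zero, Nat.totient_one] at hj; omega
      · rw [hm, Nat.totient_prime_pow Nat.prime_two (Nat.succ_pos k)]; simp [pow_succ']
    rw [SubsectionOdd.avgSign, if_neg hj0, if_neg, if_neg]
    · exact fun h => by have := Nat.le_of_dvd (by omega) h; omega
    · exact fun h => by have := Nat.le_of_dvd (by omega) h; omega
  refine ⟨R.coeff 0, ?_, ?_⟩
  · rw [Finset.sum_congr rfl fun μ hμ => hval μ ((mem_primitiveRoots hn).1 hμ), Finset.sum_comm]
    rw [Finset.sum_congr rfl fun j hj => by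
      rw [← Finset.mul_sum, SubsectionOdd.sum_pow_primitiveRoots,
        hsplit j (Finset.mem_range.1 hj)]]
    rw [Finset.sum_eq_single 0 (fun j _ hj => by simp [hj])
      (fun h => absurd (Finset.mem_range.2 hm0) h)]
    simp [mul_comm]
  -- the other coefficients cancel in pairs
  have hanti : ∀ j ∈ Finset.Ico 1 m, R.coeff j + R.coeff (m - j) = 0 := by
    intro j hj
    rw [Finset.mem_Ico] at hj
    obtain ⟨k, rfl⟩ : ∃ k', k = k' + 1 := ⟨k - 1, by
      rcases k with _ | k
      · simp only [hm, pow_zero, Nat.totient_one] at hj; omega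
      · rfl⟩
    have hm' : m = 2 ^ k := by
      rw [hm, Nat.totient_prime_pow Nat.prime_two (Nat.succ_pos k)]; simp
    have hζm : ζ ^ m = -1 := by
      have h1 : IsPrimitiveRoot (ζ ^ m) 2 := hζ.pow hn (by rw [hm', pow_succ])
      exact h1.eq_neg_one_of_two_right
    have hconj : ∀ i ∈ Finset.Ico 1 m, conj (ζ ^ i) = -ζ ^ (m - i) := by
      intro i hi
      rw [Finset.mem_Ico] at hi
      have h1 : ζ ^ i * ζ ^ (m - i) = -1 := by rw [← pow_add, Nat.add_sub_cancel' hi.2.le, hζm]
      have h2 : ζ ^ i * conj (ζ ^ i) = 1 := by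
        rw [Complex.mul_conj', norm_pow, Complex.norm_eq_one_of_pow_eq_one hζ.pow_eq_one hn.ne']
        simp
      have h0 : ζ ^ i ≠ 0 := left_ne_zero_of_mul_eq_one h2
      refine mul_left_cancel₀ h0 ?_
      rw [h2, mul_neg, h1, neg_neg]
    set S : ℤ[X] := ∑ i ∈ Finset.Ico 1 m, C (R.coeff i + R.coeff (m - i)) * X ^ i with hS
    have hS0 : aeval ζ S = 0 := by
      have h1 := hreal
      rw [hval ζ hζ, ← Finset.sum_range_add_sum_Ico _ hm0, Finset.sum_range_one, pow_zero,
        mul_one, map_add, map_intCast, add_right_inj, map_sum,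
        Finset.sum_congr rfl fun i hi => by rw [map_mul, map_intCast, hconj i hi, mul_neg],
        Finset.sum_neg_distrib] at h1
      have h2 : ∑ i ∈ Finset.Ico 1 m, (R.coeff (m - i) : ℂ) * ζ ^ i =
          ∑ i ∈ Finset.Ico 1 m, (R.coeff i : ℂ) * ζ ^ (m - i) := by
        refine Finset.sum_nbij' (fun i => m - i) (fun i => m - i) ?_ ?_ ?_ ?_ (fun i hi => ?_)
        iterate 4
          · intro i hi
            simp only [Finset.coe_Ico, Set.mem_Ico, Finset.mem_Ico] at hi ⊢
            omega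
        rw [Finset.mem_Ico] at hi
        rw [show m - (m - i) = i by omega]
      simp only [S, map_sum, map_mul, map_pow, map_add, aeval_X, aeval_C, algebraMap_int_eq,
        eq_intCast, map_intCast, add_mul, Finset.sum_add_distrib]
      rw [h2]
      linear_combination -h1
    by_contra hne
    have hcS : S.coeff j = R.coeff j + R.coeff (m - j) := by
      rw [hS, finsetSum_coeff, Finset.sum_eq_single j (fun i _ hi => by
        rw [coeff_C_mul_X_pow, if_neg hi.symm]) (fun h => absurd (Finset.mem_Ico.2 hj) h),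
        coeff_C_mul_X_pow, if_pos rfl]
    have hSne : S ≠ 0 := fun h => hne (by rw [← hcS, h, coeff_zero])
    have h3 := natDegree_le_of_dvd
      (minpoly.isIntegrallyClosed_dvd (hζ.isIntegral hn) hS0) hSne
    rw [← cyclotomic_eq_minpoly hζ hn, natDegree_cyclotomic, ← hm] at h3
    have h4 : S.natDegree < m := by
      refine lt_of_le_of_lt (natDegree_sum_le_of_forall_le _ _ (n := m - 1) fun i hi => ?_) (by omega)
      exact (natDegree_C_mul_X_pow_le _ _).trans (by have := Finset.mem_Ico.1 hi; omega)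
    omega
  have hzero : ∑ j ∈ Finset.Ico 1 m, R.coeff j = 0 := by
    have h2 : ∑ j ∈ Finset.Ico 1 m, R.coeff (m - j) = ∑ j ∈ Finset.Ico 1 m, R.coeff j := by
      refine Finset.sum_nbij' (fun j => m - j) (fun j => m - j) ?_ ?_ ?_ ?_ (fun j _ => rfl) <;>
        intro j hj <;> simp only [Finset.coe_Ico, Set.mem_Ico, Finset.mem_Ico] at hj ⊢ <;> omega
    have h3 := Finset.sum_eq_zero hanti
    rw [Finset.sum_add_distrib, h2] at h3
    omega
  have he1 : R.eval 1 = R.coeff 0 := by
    rw [eval_eq_sum_range' hdeg]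
    simp only [one_pow, mul_one]
    rw [← Finset.sum_range_add_sum_Ico _ hm0, Finset.sum_range_one, hzero, add_zero]
  rw [← aeval_modByMonic hn hζ Q, ← hR,
    ideal_iff_of_cong hM (aeval_cong_eval_one hM hζ.pow_eq_one R), he1, ideal_intCast_iff hM]
  simp

end Cfsg.Agent.CharTheory.MajorContrib
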