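import Mathlib
import Cfsg.Agent.BlockCharsA.Subsection
import Cfsg.Agent.Lib.Blocks.MajorSubsection
import Cfsg.Agent.Lib.CharTheory.MajorContrib.Cyclo

/-!
# Contributions of a major subsection

For a block `b` of the centralizer of a `p`-element inducing `B` and of the same defect, the
contribution of a pair `ψ, χ` is divisible at `M` by `p ^ height ψ`; the quotient is a unit exactly
when `χ` has height zero.
-/

set_option linter.style.haveILetI false
set_option linter.unusedSectionVars false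

namespace Cfsg.Agent.CharTheory.MajorContrib

open Cfsg.Agent.Blocks Cfsg.Agent.Characters Cfsg.Agent.BlockCharsA
open Cfsg.Agent.BlockCharsA.RegularPart Cfsg.Agent.BlockCharsA.Subsection Polynomial
open scoped ComplexConjugate

universe u

/-- The polynomial whose value at a root of unity is the contribution of a pair. -/
noncomputable def pairPoly {ι κ : Type*} (s : Finset κ) (n : ι → κ → ℕ) (e : κ → ℕ)
    (z : κ → κ → ℤ) (q : ℕ) (χ ψ : ι) : ℤ[X] :=
  ∑ η ∈ s, ∑ η' ∈ s, C ((n χ η : ℤ) * (n ψ η' : ℤ) * z η η') *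
    Polynomial.X ^ (e η + (q - 1) * e η')

theorem pairPoly_aeval {ι κ : Type*} (s : Finset κ) (n : ι → κ → ℕ) (e : κ → ℕ) (z : κ → κ → ℤ)
    (q : ℕ) (χ ψ : ι) (μ : ℂ) : aeval μ (pairPoly s n e z q χ ψ) =
      ∑ η ∈ s, ∑ η' ∈ s, (n χ η : ℂ) * (n ψ η' : ℂ) * (z η η' : ℂ) *
        μ ^ (e η + (q - 1) * e η') := by
  simp [pairPoly, map_sum]

theorem pairPoly_conj {ι κ : Type*} (s : Finset κ) (n : ι → κ → ℕ) (e : κ → ℕ) (z : κ → κ → ℤ)
    {q : ℕ} (hq0 : q ≠ 0) (hz : ∀ η ∈ s, ∀ η' ∈ s, z η' η = z η η') (χ ψ : ι) {μ : ℂ}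
    (hμ : μ ^ q = 1) :
    conj (aeval μ (pairPoly s n e z q χ ψ)) = aeval μ (pairPoly s n e z q ψ χ) := by
  rw [pairPoly_aeval, pairPoly_aeval, map_sum, Finset.sum_comm]
  refine Finset.sum_congr rfl fun η hη => ?_
  rw [map_sum]
  refine Finset.sum_congr rfl fun η' hη' => ?_
  simp only [map_mul, Complex.conj_natCast, map_intCast, conj_pow_pair hq0 hμ]
  rw [hz η' hη' η hη]
  ring

theorem pairPoly_eval_one {ι κ : Type*} (s : Finset κ) (n : ι → κ → ℕ) (e : κ → ℕ) (z : κ → κ → ℤ)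
    (q : ℕ) (hz : ∀ η ∈ s, ∀ η' ∈ s, z η' η = z η η') (χ ψ : ι) :
    (pairPoly s n e z q χ ψ).eval 1 = (pairPoly s n e z q ψ χ).eval 1 := by
  simp only [pairPoly, eval_finset_sum, eval_mul, eval_C, eval_pow, eval_X, one_pow, mul_one]
  rw [Finset.sum_comm]
  exact Finset.sum_congr rfl fun η hη => Finset.sum_congr rfl fun η' hη' => by
    rw [hz η hη η' hη']; ring

/-- Membership in the height-zero part. -/
def IsHeightZero {G : Type u} [Group G] (p : ℕ) (B : Set (Cfsg.IrrCharacter G))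
    (χ : Cfsg.IrrCharacter G) : Prop :=
  χ ∈ B ∧ Cfsg.blockHeight p B (χ : G → ℂ) = 0

/-- The properties of the contribution table of a major subsection. -/
structure IsTable {G : Type u} [Group G] {κ : Type*} [Fintype (Cfsg.IrrCharacter G)] (p : ℕ)
    (M : Ideal Cfsg.AlgInt) (B : Set (Cfsg.IrrCharacter G)) [DecidablePred (· ∈ B)] (k : ℕ) (ζ : ℂ)
    (d l : ℕ) (bs : Finset κ) (n : Cfsg.IrrCharacter G → κ → ℕ) (e : κ → ℕ) (z : κ → κ → ℤ) :
    Prop where
  sym : ∀ η ∈ bs, ∀ η' ∈ bs, z η' η = z η η'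
  sq : ∀ η ∈ bs, ∀ η' ∈ bs, ∑ θ ∈ bs, z η θ * z θ η' = (p : ℤ) ^ d * z η η'
  trace : ∑ η ∈ bs, z η η = (p : ℤ) ^ d * l
  row : ∀ μ ∈ primitiveRoots (p ^ k) ℂ, ∀ χ : Cfsg.IrrCharacter G,
    ((∑ ψ ∈ Finset.univ.filter (· ∈ B), ‖aeval μ (pairPoly bs n e z (p ^ k) χ ψ)‖ ^ 2 : ℝ) : ℂ) =
      ((p ^ d : ℕ) : ℂ) * aeval μ (pairPoly bs n e z (p ^ k) χ χ)
  tr : ∀ μ ∈ primitiveRoots (p ^ k) ℂ,
    ∑ χ ∈ Finset.univ.filter (· ∈ B), aeval μ (pairPoly bs n e z (p ^ k) χ χ) =
      ((p ^ d * l : ℕ) : ℂ)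
  div : ∀ ψ ∈ B, ∀ χ ∈ B,
    Cfsg.MemLocalRing M (aeval ζ (pairPoly bs n e z (p ^ k) ψ χ) /
      (p : ℂ) ^ Cfsg.blockHeight p B (ψ : G → ℂ))
  unit_iff : ∀ ψ ∈ B, ∀ χ ∈ B,
    Cfsg.MemLocalIdeal M (aeval ζ (pairPoly bs n e z (p ^ k) ψ χ) /
      (p : ℂ) ^ Cfsg.blockHeight p B (ψ : G → ℂ)) ↔ Cfsg.blockHeight p B (χ : G → ℂ) ≠ 0

variable {G : Type u} [Group G] [Finite G] {p : ℕ} {M : Ideal Cfsg.AlgInt}

/-- The contribution table of a subsection inducing with full defect. -/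
theorem exists_table (hM : Cfsg.IsPModular p M) {B : Set (Cfsg.IrrCharacter G)}
    {y : G} {k : ℕ} (hk : orderOf y = p ^ k) {ζ : ℂ} (hζ : IsPrimitiveRoot ζ (p ^ k))
    {b : Set (Cfsg.IrrCharacter (Subgroup.centralizer ({y} : Set G)))}
    (hind : Cfsg.IsInducedBlock M (Subgroup.centralizer ({y} : Set G)) b B)
    (hdef : Cfsg.blockDefect p b = Cfsg.blockDefect p B)
    [Fintype (Cfsg.IrrCharacter G)] [DecidablePred (· ∈ B)] :
    ∃ (bs : Finset (Cfsg.IrrCharacter (Subgroup.centralizer ({y} : Set G))))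
      (n : Cfsg.IrrCharacter G → Cfsg.IrrCharacter (Subgroup.centralizer ({y} : Set G)) → ℕ)
      (e : Cfsg.IrrCharacter (Subgroup.centralizer ({y} : Set G)) → ℕ)
      (z : Cfsg.IrrCharacter (Subgroup.centralizer ({y} : Set G)) →
        Cfsg.IrrCharacter (Subgroup.centralizer ({y} : Set G)) → ℤ),
      IsTable p M B k ζ (Cfsg.blockDefect p B) (Cfsg.blockRank p b) bs n e z ∧
        (∀ η, η ∈ bs ↔ η ∈ b) ∧
        ∀ η ∈ bs, ∀ η' ∈ bs, Contrib.contrib p b η η' = (z η η' : ℂ) := by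
  classical
  haveI := fact_prime_of_pm hM
  haveI := Fintype.ofFinite G
  haveI := Fintype.ofFinite (Subgroup.centralizer ({y} : Set G))
  haveI := Fintype.ofFinite (Cfsg.IrrCharacter (Subgroup.centralizer ({y} : Set G)))
  have hB := hind.2.1
  have hb := hind.1
  have hy : ∃ k : ℕ, orderOf y = p ^ k := ⟨k, hk⟩
  set q := p ^ k with hqdef
  have hq0 : q ≠ 0 := pow_ne_zero _ hM.1.ne_zero
  have hyq : y ^ q = 1 := by rw [← hk, pow_orderOf_eq_one]
  haveI : NeZero q := ⟨hq0⟩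
  have hex : ∀ η : Cfsg.IrrCharacter (Subgroup.centralizer ({y} : Set G)),
      ∃ i : ℕ, ζ ^ i = eps y η := fun η => by
    obtain ⟨i, -, hi⟩ := hζ.eq_pow_of_pow_eq_one (eps_pow hyq η)
    exact ⟨i, hi⟩
  choose e he using hex
  have hn' : ∀ (χ : Cfsg.IrrCharacter G)
      (η : Cfsg.IrrCharacter (Subgroup.centralizer ({y} : Set G))), ∃ n : ℕ,
      Cfsg.classInner (fun c : Subgroup.centralizer ({y} : Set G) => (χ : G → ℂ) c)
        (η : Subgroup.centralizer ({y} : Set G) → ℂ) = (n : ℂ) :=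
    fun χ η => classInner_char_nat (isCharacter_restrict _ (irr_isCharacter χ)) (irr_isCharacter η)
  choose n hn using hn'
  obtain ⟨z, hz, hzs, -, -, -, -, -, hzz, hztr⟩ := Contrib.exists_matrix hM hb
  set bs := Finset.univ.filter (· ∈ b) with hbs
  set Bs := Finset.univ.filter (· ∈ B) with hBs
  -- the value at `ζ`
  set d := Cfsg.blockDefect p b with hd
  set c : ℂ := ((p ^ d : ℕ) : ℂ) / (Nat.card (Subgroup.centralizer ({y} : Set G)) : ℂ) with hc
  set f : Cfsg.IrrCharacter G → Subgroup.centralizer ({y} : Set G) → ℂ := fun χ =>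
    Cfsg.blockPart b (ZStar.Principal.shift y (χ : G → ℂ)) with hf
  have hfval : ∀ χ s, f χ s = ∑ η ∈ bs, (n χ η : ℂ) * ζ ^ e η * (η : Subgroup.centralizer ({y} : Set G) → ℂ) s := by
    intro χ s
    simp only [f]
    rw [ZStar.Principal.blockPart_eq_sum_mul, ZStar.Principal.finsum_mem_eq_sum_filter]
    refine Finset.sum_congr (by ext; simp [bs]) fun η _ => ?_
    rw [classInner_shift hq0 hyq, hn, he]
  have hζval : ∀ χ ψ, aeval ζ (pairPoly bs n e z q χ ψ) = c * regSum p (f χ) (f ψ) := by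
    intro χ ψ
    have hexp : regSum p (f χ) (f ψ) = ∑ η ∈ bs, ∑ η' ∈ bs,
        (n χ η : ℂ) * ζ ^ e η * ((n ψ η' : ℂ) * conj (ζ ^ e η')) *
          regSum p (η : Subgroup.centralizer ({y} : Set G) → ℂ) (η' : Subgroup.centralizer ({y} : Set G) → ℂ) := by
      rw [regSum_eq_sum]
      simp only [regSum_eq_sum, Finset.mul_sum]
      conv_rhs => arg 2; ext η; rw [Finset.sum_comm]
      rw [Finset.sum_comm (s := bs)]
      refine Finset.sum_congr rfl fun s _ => ?_
      by_cases hs : p ∣ orderOf s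
      · simp [hs]
      · simp only [hs, not_false_eq_true, if_true, hfval, map_sum, Finset.sum_mul, Finset.mul_sum,
          map_mul, Complex.conj_natCast]
        rw [Finset.sum_comm]
        exact Finset.sum_congr rfl fun η _ => Finset.sum_congr rfl fun η' _ => by ring
    rw [pairPoly_aeval, hexp, Finset.mul_sum]
    refine Finset.sum_congr rfl fun η hη => ?_
    rw [Finset.mul_sum]
    refine Finset.sum_congr rfl fun η' hη' => ?_
    rw [← hz η (Finset.mem_filter.1 hη).2 η' (Finset.mem_filter.1 hη').2, Contrib.contrib,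
      pow_add, map_pow, conj_eq_inv_of_pow hq0 hζ.pow_eq_one, inv_pow,
      show ζ ^ ((q - 1) * e η') = (ζ ^ e η')⁻¹ from by
        rw [← conj_eq_inv_of_pow hq0 (by rw [← pow_mul, mul_comm, pow_mul, hζ.pow_eq_one, one_pow]),
          ← zero_add (e η'), ← mul_zero (q - 1), add_comm ((q - 1) * 0),
          conj_pow_pair hq0 hζ.pow_eq_one]
        simp]
    simp only [hc]
    ring
  -- nonvanishing
  obtain ⟨η₀, hη₀, hη₀h⟩ := exists_height_zero hM hb
  set a := (Nat.card (Subgroup.centralizer ({y} : Set G))).factorization p with ha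
  set δ : Cfsg.IrrCharacter (Subgroup.centralizer ({y} : Set G)) → ℂ := fun η =>
    ((Cfsg.charDegree (η : Subgroup.centralizer ({y} : Set G) → ℂ) : ℕ) : ℂ) / ((p ^ (a - d) : ℕ) : ℂ) with hδ
  have hδr : ∀ η ∈ b, Cfsg.MemLocalRing M (δ η) := fun η hη =>
    ring_natCast_div hM (pow_ne_zero _ hM.1.ne_zero) (by
      rw [hM.1.factorization_pow, Finsupp.single_eq_same]
      have := degree_factorization_eq hM hb hη
      omega)
  have hδ0 : ¬ Cfsg.MemLocalIdeal M (δ η₀) :=
    not_ideal_natCast_div hM (charDegree_pos η₀).ne' (pow_ne_zero _ hM.1.ne_zero) (by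
      rw [hM.1.factorization_pow, Finsupp.single_eq_same]
      have := degree_factorization_eq hM hb hη₀
      omega)
  have hzr : ∀ η ∈ b, ∀ η' ∈ b, (z η η' : ℂ) = δ η' * ratio p (η : Subgroup.centralizer ({y} : Set G) → ℂ) (η' : Subgroup.centralizer ({y} : Set G) → ℂ) := by
    intro η hη η' hη'
    obtain ⟨w, hw, hw', -⟩ := exists_coeff hM η η'
    rw [Contrib.classInner_hat_regSum, hw'] at hw
    rw [← hz η hη η' hη', Contrib.contrib, hδ]
    show _ = ((Cfsg.charDegree (η' : Subgroup.centralizer ({y} : Set G) → ℂ) : ℕ) : ℂ) / ((p ^ (a - d) : ℕ) : ℂ) * _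
    have hpa : ((p ^ a : ℕ) : ℂ) = ((p ^ d : ℕ) : ℂ) * ((p ^ (a - d) : ℕ) : ℂ) := by
      rw [← Nat.cast_mul, ← pow_add, Nat.add_sub_cancel' (blockDefect_le p b)]
    rw [← ha, hpa] at hw
    rw [div_mul_eq_mul_div _ ((p ^ (a - d) : ℕ) : ℂ), ← hw,
      eq_div_iff (natCast_p_pow_ne_zero hM _)]
    ring
  set R : Cfsg.IrrCharacter G → ℂ := fun χ =>
    ∑ η ∈ bs, (n χ η : ℂ) * ratio p (η : Subgroup.centralizer ({y} : Set G) → ℂ) (η₀ : Subgroup.centralizer ({y} : Set G) → ℂ) with hR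
  set D : Cfsg.IrrCharacter G → ℂ := fun χ => ∑ η ∈ bs, (n χ η : ℂ) * δ η with hD
  have hRu : ∀ χ, IsHeightZero p B χ → ¬ Cfsg.MemLocalIdeal M (R χ) := fun χ hχ =>
    sum_mult_ratio_unit hM hind hχ.1 (hχ.2) hη₀ (n χ) (hn χ)
  have hDr : ∀ χ, Cfsg.MemLocalRing M (D χ) := fun χ => ring_sum hM fun η hη =>
    ring_mul hM (ring_natCast hM _) (hδr η (Finset.mem_filter.1 hη).2)
  have hRr : ∀ χ, Cfsg.MemLocalRing M (R χ) := fun χ => ring_sum hM fun η _ =>
    ring_mul hM (ring_natCast hM _) (ratio_ring hM η η₀)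
  have hDu : ∀ χ, IsHeightZero p B χ → ¬ Cfsg.MemLocalIdeal M (D χ) := by
    intro χ hχ h
    have hcong : Cong M (δ η₀ * R χ) (ratio p (η₀ : Subgroup.centralizer ({y} : Set G) → ℂ) (η₀ : Subgroup.centralizer ({y} : Set G) → ℂ) * D χ) := by
      simp only [R, D, Finset.mul_sum]
      refine cong_sum hM fun η hη => ?_
      have hη' := (Finset.mem_filter.1 hη).2
      have e1 : δ η₀ * ((n χ η : ℂ) * ratio p (η : Subgroup.centralizer ({y} : Set G) → ℂ) (η₀ : Subgroup.centralizer ({y} : Set G) → ℂ)) =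
          (n χ η : ℂ) * (z η₀ η : ℂ) := by
        rw [hzs η hη' η₀ hη₀, hzr η hη' η₀ hη₀]; ring
      rw [e1, hzr η₀ hη₀ η hη',
        show ratio p (η₀ : Subgroup.centralizer ({y} : Set G) → ℂ) (η₀ : Subgroup.centralizer ({y} : Set G) → ℂ) * ((n χ η : ℂ) * δ η) =
          (n χ η : ℂ) * δ η * ratio p (η₀ : Subgroup.centralizer ({y} : Set G) → ℂ) (η₀ : Subgroup.centralizer ({y} : Set G) → ℂ) from by ring, ← mul_assoc]
      exact cong_mul_left hM (ring_mul hM (ring_natCast hM _) (hδr η hη'))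
        (ratio_cong hM hb η₀ hη' hη₀)
    have h2 := (ideal_iff_of_cong hM hcong).2 (ideal_mul_left hM (ratio_ring hM η₀ η₀) h)
    rw [ideal_mul_iff hM (hδr η₀ hη₀) (hRr χ)] at h2
    exact h2.elim hδ0 (hRu χ hχ)
  have hnu : ∀ μ : ℂ, μ ^ q = 1 → ∀ χ, IsHeightZero p B χ → ∀ ψ, IsHeightZero p B ψ → ¬ Cfsg.MemLocalIdeal M (aeval μ (pairPoly bs n e z q χ ψ)) := by
    intro μ hμ χ hχ ψ hψ h0
    have hc1 : Cong M (aeval μ (pairPoly bs n e z q χ ψ)) (D ψ * R χ) := by
      rw [pairPoly_aeval]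
      simp only [R, D, Finset.mul_sum]
      rw [show ∀ g : Cfsg.IrrCharacter (Subgroup.centralizer ({y} : Set G)) → ℂ,
        ∑ η ∈ bs, (∑ η' ∈ bs, (n ψ η' : ℂ) * δ η') * g η =
          ∑ η ∈ bs, ∑ η' ∈ bs, (n ψ η' : ℂ) * δ η' * g η from fun g =>
            Finset.sum_congr rfl fun η _ => Finset.sum_mul _ _ _]
      refine cong_sum hM fun η hη => cong_sum hM fun η' hη' => ?_
      have hη1 := (Finset.mem_filter.1 hη).2
      have hη1' := (Finset.mem_filter.1 hη').2
      have e1 : Cong M ((n χ η : ℂ) * (n ψ η' : ℂ) * (z η η' : ℂ) * μ ^ (e η + (q - 1) * e η'))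
          ((n χ η : ℂ) * (n ψ η' : ℂ) * (z η η' : ℂ) * 1) :=
        cong_mul_left hM (ring_mul hM (ring_mul hM (ring_natCast hM _) (ring_natCast hM _))
          (ring_intCast hM _)) (cong_one_of_pow_prime_pow hM (k := k) (by
            rw [← pow_mul, mul_comm, pow_mul, ← hqdef, hμ, one_pow]))
      refine cong_trans hM e1 ?_
      rw [mul_one, hzr η hη1 η' hη1',
        show (n ψ η' : ℂ) * δ η' * ((n χ η : ℂ) * ratio p (η : Subgroup.centralizer ({y} : Set G) → ℂ) (η₀ : Subgroup.centralizer ({y} : Set G) → ℂ)) =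
          (n χ η : ℂ) * (n ψ η' : ℂ) * δ η' * ratio p (η : Subgroup.centralizer ({y} : Set G) → ℂ) (η₀ : Subgroup.centralizer ({y} : Set G) → ℂ) from by ring,
        ← mul_assoc]
      exact cong_mul_left hM (ring_mul hM (ring_mul hM (ring_natCast hM _) (ring_natCast hM _))
        (hδr η' hη1')) (ratio_cong hM hb η hη1' hη₀)
    have h2 := (ideal_iff_of_cong hM hc1).1 h0
    rw [ideal_mul_iff hM (hDr ψ) (hRr χ)] at h2
    exact h2.elim (hDu ψ hψ) (hRu χ hχ)
  have hcC : c * (Nat.card (Subgroup.centralizer ({y} : Set G)) : ℂ) = ((p ^ d : ℕ) : ℂ) := by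
    rw [hc, div_mul_cancel₀ _ natCard_ne_zero]
  have hgram : ∀ s t : Subgroup.centralizer ({y} : Set G), ¬ p ∣ orderOf s → ¬ p ∣ orderOf t →
      ∑ ψ ∈ Bs, f ψ s * conj (f ψ t) =
        (Nat.card (Subgroup.centralizer ({y} : Set G)) : ℂ) * blockKernelAt b s t := by
    intro s t hs ht
    rw [← gram_block hM hy hind hs ht, ZStar.Principal.finsum_mem_eq_sum_filter]
    exact Finset.sum_congr (by ext; simp [Bs]) fun ψ _ => rfl
  -- the contributions form a multiple of a projection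
  set S := Finset.univ.filter fun s : Subgroup.centralizer ({y} : Set G) => ¬ p ∣ orderOf s
    with hS
  have hrep : ∀ χ : Cfsg.IrrCharacter G, ∀ t ∈ S,
      ∑ s ∈ S, blockKernelAt b t s * f χ s = f χ t := by
    intro χ t ht
    have ht' := (Finset.mem_filter.1 ht).2
    rw [Finset.sum_subset (Finset.subset_univ S) fun s _ hs => by
      rw [Rank.kernel_sing_right hM (intEl_blockIdem hM hb) ht' (by simpa [hS] using hs), zero_mul]]
    simp only [f, blockPart_eq_kernel, Finset.mul_sum]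
    rw [Finset.sum_comm]
    exact Finset.sum_congr rfl fun c' _ => by
      simp only [← mul_assoc]
      rw [← Finset.sum_mul, Rank.kernel_mul_kernel]
  have hregS : ∀ χ ψ : Cfsg.IrrCharacter G,
      regSum p (f χ) (f ψ) = ∑ s ∈ S, f χ s * conj (f ψ s) := fun χ ψ => by
    rw [regSum_eq_sum, hS, Finset.sum_filter]
  have hrowζ : ∀ χ : Cfsg.IrrCharacter G,
      ∑ ψ ∈ Bs, aeval ζ (pairPoly bs n e z q χ ψ) * aeval ζ (pairPoly bs n e z q ψ χ) = ((p ^ d : ℕ) : ℂ) * aeval ζ (pairPoly bs n e z q χ χ) := by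
    intro χ
    simp only [hζval, hregS]
    calc ∑ ψ ∈ Bs, (c * ∑ s ∈ S, f χ s * conj (f ψ s)) * (c * ∑ t ∈ S, f ψ t * conj (f χ t))
        = c ^ 2 * ∑ t ∈ S, (∑ s ∈ S, f χ s * ∑ ψ ∈ Bs, f ψ t * conj (f ψ s)) * conj (f χ t) := by
          simp only [Finset.mul_sum, Finset.sum_mul]
          rw [Finset.sum_comm]
          refine Finset.sum_congr rfl fun t _ => ?_
          rw [Finset.sum_comm]
          exact Finset.sum_congr rfl fun s _ => Finset.sum_congr rfl fun ψ _ => by ring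
      _ = c ^ 2 * ∑ t ∈ S, (Nat.card (Subgroup.centralizer ({y} : Set G)) : ℂ) *
            (f χ t * conj (f χ t)) := by
          refine congrArg _ (Finset.sum_congr rfl fun t ht => ?_)
          rw [Finset.sum_congr rfl fun s hs => by
            rw [hgram t s (Finset.mem_filter.1 ht).2 (Finset.mem_filter.1 hs).2,
              show f χ s * ((Nat.card (Subgroup.centralizer ({y} : Set G)) : ℂ) * blockKernelAt b t s) =
                (Nat.card (Subgroup.centralizer ({y} : Set G)) : ℂ) * (blockKernelAt b t s * f χ s)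
                from by ring], ← Finset.mul_sum, hrep χ t ht]
          ring
      _ = _ := by rw [← Finset.mul_sum, ← hcC]; ring

  have hzz' : ∀ η ∈ bs, ∀ η' ∈ bs, ∑ θ ∈ bs, z η θ * z θ η' =
      (p : ℤ) ^ Cfsg.blockDefect p B * z η η' := fun η hη η' hη' => by
    rw [← hdef, ← hzz η (Finset.mem_filter.1 hη).2 η' (Finset.mem_filter.1 hη').2,
      ZStar.Principal.finsum_mem_eq_sum_filter]
  have hsym : ∀ η ∈ bs, ∀ η' ∈ bs, z η' η = z η η' := fun η hη η' hη' =>
    hzs η (Finset.mem_filter.1 hη).2 η' (Finset.mem_filter.1 hη').2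
  refine ⟨bs, n, e, z, ?_, fun η => by simp [bs],
    fun η hη η' hη' => hz η (Finset.mem_filter.1 hη).2 η' (Finset.mem_filter.1 hη').2⟩
  refine ⟨hsym, hzz', ?_, ?_, ?_, ?_, ?_⟩
  · rw [← hdef, ← hztr, ZStar.Principal.finsum_mem_eq_sum_filter]
  · intro μ hμ χ
    have hμ' := (mem_primitiveRoots (Nat.pos_of_ne_zero hq0)).1 hμ
    set Pq := fun a b => (pairPoly bs n e z q a b).map (Int.castRingHom ℚ) with hPq
    have hev : ∀ (ν : ℂ) a b, aeval ν (Pq a b) = aeval ν (pairPoly bs n e z q a b) := fun ν a b => by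
      simp only [Pq, ← algebraMap_int_eq, aeval_map_algebraMap]
    have h1 := aeval_eq_rat_of_primitive (Nat.pos_of_ne_zero hq0) hζ hμ'
      (∑ ψ ∈ Bs, Pq χ ψ * Pq ψ χ - (p ^ Cfsg.blockDefect p b : ℕ) * Pq χ χ) (q := 0)
      (by simp only [map_sub, map_sum, map_mul, map_natCast, hev, hrowζ, hd, sub_self, Rat.cast_zero])
    simp only [map_sub, map_sum, map_mul, map_natCast, hev, Rat.cast_zero, sub_eq_zero] at h1
    rw [← hdef, ← h1, Complex.ofReal_sum]
    refine Finset.sum_congr rfl fun ψ _ => ?_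
    rw [← pairPoly_conj bs n e z hq0 hsym χ ψ hμ'.pow_eq_one, Complex.mul_conj', Complex.ofReal_pow]
  · intro μ hμ
    set Pq := fun a b => (pairPoly bs n e z q a b).map (Int.castRingHom ℚ) with hPq
    have hev : ∀ (ν : ℂ) a b, aeval ν (Pq a b) = aeval ν (pairPoly bs n e z q a b) := fun ν a b => by
      simp only [Pq, ← algebraMap_int_eq, aeval_map_algebraMap]
    have hζl : aeval ζ (∑ χ ∈ Bs, Pq χ χ) =
        (((p ^ Cfsg.blockDefect p b * Cfsg.blockRank p b : ℕ) : ℚ) : ℂ) := by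
      rw [Rat.cast_natCast, Nat.cast_mul, map_sum,
        Rank.blockRank_eq_trace hM (intEl_blockIdem hM hb)]
      simp only [hev, hζval, hregS, ← Finset.mul_sum]
      rw [Finset.sum_comm, ← Finset.sum_filter, ← hS,
        Finset.sum_congr rfl fun s hs => hgram s s (Finset.mem_filter.1 hs).2
          (Finset.mem_filter.1 hs).2, ← Finset.mul_sum, ← mul_assoc, hcC, hd]
    have h1 := aeval_eq_rat_of_primitive (Nat.pos_of_ne_zero hq0) hζ
      ((mem_primitiveRoots (Nat.pos_of_ne_zero hq0)).1 hμ) _ hζl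
    rw [map_sum, Rat.cast_natCast] at h1
    simp only [hev] at h1
    rw [← hdef]
    exact h1
  all_goals
    -- the central element of the section
    set Φ : Cfsg.IrrCharacter G → Subgroup.centralizer ({y} : Set G) → ℂ := fun χ s =>
      ∑ η ∈ bs, (n χ η : ℂ) * ζ ^ e η *
        (η : Subgroup.centralizer ({y} : Set G) → ℂ) s with hΦ
    have hΦf : ∀ χ, f χ = Φ χ := fun χ => funext fun s => hfval χ s
    have hΦcl : ∀ χ, Cfsg.IsClassFunction _ (Φ χ) := fun χ g h => by
      simp only [Φ]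
      exact Finset.sum_congr rfl fun η _ => by rw [irr_isClassFunction η g h]
    have hΦint : ∀ χ s, IsIntegral ℤ (Φ χ s) := fun χ s => IsIntegral.sum _ fun η _ =>
      ((isIntegral_natCast _).mul ((isIntegral_of_pow_eq_one hq0 hζ.pow_eq_one).pow _)).mul
        (char_value_isIntegral (irr_isCharacter η) s)
    have hadj : ∀ ψ χ : Cfsg.IrrCharacter G,
        regSum p (ZStar.Principal.shift y (ψ : G → ℂ)) (Φ χ) = regSum p (f ψ) (f χ) := by
      intro ψ χ
      have hexp := classFun_eq_sum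
        (ZStar.Principal.isClassFunction_shift y (irr_isClassFunction ψ))
      rw [hΦf, hΦf, regSum_eq_sum, regSum_eq_sum]
      have hout : ∀ η : Cfsg.IrrCharacter (Subgroup.centralizer ({y} : Set G)), η ∉ bs →
          regSum p (η : Subgroup.centralizer ({y} : Set G) → ℂ) (Φ χ) = 0 := by
        intro η hη
        calc _ = ∑ θ ∈ bs, conj ((n χ θ : ℂ) * ζ ^ e θ) *
              regSum p (η : Subgroup.centralizer ({y} : Set G) → ℂ)
                (θ : Subgroup.centralizer ({y} : Set G) → ℂ) := by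
              simp only [regSum_eq_sum, Finset.mul_sum]
              rw [Finset.sum_comm]
              refine Finset.sum_congr rfl fun s _ => ?_
              by_cases hs : p ∣ orderOf s
              · simp [hs]
              · simp only [hs, not_false_eq_true, if_true, Φ, map_sum, map_mul, Finset.mul_sum]
                exact Finset.sum_congr rfl fun θ _ => by ring
          _ = 0 := Finset.sum_eq_zero fun θ hθ => by
              rw [regSum_eq_zero_of_not_sameBlock hM fun hsame => hη (Finset.mem_filter.2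
                ⟨Finset.mem_univ _, mem_of_sameBlock hM hb (Finset.mem_filter.1 hθ).2
                  (sameBlock_symm hM hsame)⟩), mul_zero]
      have hL : regSum p (ZStar.Principal.shift y (ψ : G → ℂ)) (Φ χ) =
          ∑ η : Cfsg.IrrCharacter (Subgroup.centralizer ({y} : Set G)),
            ((n ψ η : ℂ) * ζ ^ e η) *
              regSum p (η : Subgroup.centralizer ({y} : Set G) → ℂ) (Φ χ) := by
        simp only [regSum_eq_sum, Finset.mul_sum]
        rw [Finset.sum_comm]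
        refine Finset.sum_congr rfl fun s _ => ?_
        by_cases hs : p ∣ orderOf s
        · simp [hs]
        · simp only [hs, not_false_eq_true, if_true]
          conv_lhs => rw [hexp]
          rw [Finset.sum_apply, Finset.sum_mul]
          refine Finset.sum_congr rfl fun η _ => ?_
          rw [Pi.smul_apply, smul_eq_mul, classInner_shift hq0 hyq, hn, he, mul_assoc]
      rw [← regSum_eq_sum, hL, ← Finset.sum_subset (Finset.subset_univ bs) fun η _ hη => by
        rw [hout η hη, mul_zero]]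
      simp only [regSum_eq_sum, Finset.mul_sum]
      rw [Finset.sum_comm]
      refine Finset.sum_congr rfl fun s _ => ?_
      by_cases hs : p ∣ orderOf s
      · simp [hs]
      · simp only [hs, not_false_eq_true, if_true, Φ, Finset.sum_mul]
        exact Finset.sum_congr rfl fun η _ => by ring
    -- the contribution is a unit times the central character
    set h : Cfsg.IrrCharacter G → ℕ := fun ψ => Cfsg.blockHeight p B (ψ : G → ℂ) with hh
    set U : Cfsg.IrrCharacter G → ℂ := fun ψ =>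
      ((p ^ Cfsg.blockDefect p B * Cfsg.charDegree (ψ : G → ℂ) : ℕ) : ℂ) /
        ((Nat.card G * p ^ h ψ : ℕ) : ℂ) with hU
    have hfac : ∀ ψ ∈ B, (Nat.card G * p ^ h ψ).factorization p =
        (p ^ Cfsg.blockDefect p B * Cfsg.charDegree (ψ : G → ℂ)).factorization p := fun ψ hψ => by
      rw [Nat.factorization_mul Nat.card_pos.ne' (pow_ne_zero _ hM.1.ne_zero),
        Nat.factorization_mul (pow_ne_zero _ hM.1.ne_zero) (charDegree_pos ψ).ne',
        Finsupp.add_apply, Finsupp.add_apply, hM.1.factorization_pow, hM.1.factorization_pow,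
        Finsupp.single_eq_same, Finsupp.single_eq_same]
      have := degree_factorization_eq hM hB hψ
      simp only [h]
      omega
    have hUr : ∀ ψ ∈ B, Cfsg.MemLocalRing M (U ψ) := fun ψ hψ =>
      ring_natCast_div hM (Nat.mul_ne_zero Nat.card_pos.ne' (pow_ne_zero _ hM.1.ne_zero))
        (hfac ψ hψ).le
    have hUu : ∀ ψ ∈ B, ¬ Cfsg.MemLocalIdeal M (U ψ) := fun ψ hψ =>
      not_ideal_natCast_div hM (Nat.mul_ne_zero (pow_ne_zero _ hM.1.ne_zero) (charDegree_pos ψ).ne')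
        (Nat.mul_ne_zero Nat.card_pos.ne' (pow_ne_zero _ hM.1.ne_zero)) (hfac ψ hψ)
    set w : Cfsg.IrrCharacter G → Cfsg.IrrCharacter G → ℂ := fun ψ χ =>
      omega (ψ : G → ℂ) (MajorSubsection.secEl p y (Φ χ)) with hw
    have hwz := fun χ => MajorSubsection.central_secEl hM.1 hy (hΦcl χ)
    have hwi := fun χ => MajorSubsection.intEl_secEl (p := p) (y := y) hM (hΦint χ)
    have hwr : ∀ ψ χ, Cfsg.MemLocalRing M (w ψ χ) := fun ψ χ => omega_ring hM ψ (hwz χ) (hwi χ)
    have hmw : ∀ ψ χ : Cfsg.IrrCharacter G,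
        aeval ζ (pairPoly bs n e z q ψ χ) / (p : ℂ) ^ h ψ = U ψ * w ψ χ := by
      intro ψ χ
      simp only [w, U, omega]
      rw [MajorSubsection.evalChar_secEl hM.1 hy (hΦcl χ) (irr_isClassFunction ψ), hadj, hζval,
        hc, ← Subgroup.card_mul_index (Subgroup.centralizer ({y} : Set G)), ← charDegree_cast ψ,
        hdef]
      have h1 : ((Cfsg.charDegree (ψ : G → ℂ)) : ℂ) ≠ 0 :=
        Nat.cast_ne_zero.2 (charDegree_pos ψ).ne'
      have h2 : (Nat.card (Subgroup.centralizer ({y} : Set G)) : ℂ) ≠ 0 := natCard_ne_zero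
      have h3 : ((Subgroup.centralizer ({y} : Set G)).index : ℂ) ≠ 0 :=
        Nat.cast_ne_zero.2 Subgroup.index_ne_zero_of_finite
      have h4 : (p : ℂ) ≠ 0 := Nat.cast_ne_zero.2 hM.1.ne_zero
      push_cast
      field_simp
  · intro ψ hψ χ _
    rw [hmw]
    exact ring_mul hM (hUr ψ hψ) (hwr ψ χ)
  · intro ψ hψ χ hχ
    rw [hmw, ideal_mul_iff hM (hUr ψ hψ) (hwr ψ χ), or_iff_right (hUu ψ hψ)]
    obtain ⟨ψ₀, hψ₀, hψ₀0⟩ := exists_height_zero hM hB
    rw [ideal_iff_of_cong hM (omega_cong_of_mem hM hB hψ hψ₀ (hwz χ) (hwi χ))]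
    have e1 : aeval ζ (pairPoly bs n e z q ψ₀ χ) = U ψ₀ * w ψ₀ χ := by
      rw [← hmw, show h ψ₀ = 0 from hψ₀0, pow_zero, div_one]
    have e2 : Cfsg.MemLocalIdeal M (aeval ζ (pairPoly bs n e z q ψ₀ χ)) ↔
        Cfsg.MemLocalIdeal M (w ψ₀ χ) := by
      rw [e1, ideal_mul_iff hM (hUr ψ₀ hψ₀) (hwr ψ₀ χ), or_iff_right (hUu ψ₀ hψ₀)]
    have e3 : Cfsg.MemLocalIdeal M (aeval ζ (pairPoly bs n e z q ψ₀ χ)) ↔
        Cfsg.MemLocalIdeal M (aeval ζ (pairPoly bs n e z q χ ψ₀)) := by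
      rw [ideal_iff_of_cong hM (aeval_cong_eval_one hM hζ.pow_eq_one _),
        pairPoly_eval_one bs n e z q hsym,
        ← ideal_iff_of_cong hM (aeval_cong_eval_one hM hζ.pow_eq_one _)]
    rw [← e2]
    constructor
    · intro hI h0
      exact hnu ζ hζ.pow_eq_one ψ₀ ⟨hψ₀, hψ₀0⟩ χ ⟨hχ, h0⟩ hI
    · intro h0
      rw [e3]
      have e4 : aeval ζ (pairPoly bs n e z q χ ψ₀) = U χ * w χ ψ₀ * (p : ℂ) ^ h χ := by
        rw [← hmw, div_mul_cancel₀]
        exact pow_ne_zero _ (Nat.cast_ne_zero.2 hM.1.ne_zero)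
      rw [e4]
      exact ideal_mul_left hM (ring_mul hM (hUr χ hχ) (hwr χ ψ₀))
        (ideal_pow hM (ideal_p hM) (Nat.pos_of_ne_zero h0).ne')

end Cfsg.Agent.CharTheory.MajorContrib
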