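import Mathlib
import Cfsg.Agent.Lib.CharTheory.MajorContrib.Table

/-!
# The mean of the norm of a cyclotomic combination in an integral lattice

If every integral vector has norm `0` or at least `c`, then so has the mean, over the primitive
roots of unity of prime power order, of the norm of a combination of their powers.
-/

namespace Cfsg.Agent.CharTheory.MajorContrib

open Polynomial

variable {κ : Type*} (s : Finset κ) (z : κ → κ → ℤ)

/-- The bilinear form of the table. -/
def form (u v : κ → ℤ) : ℤ := ∑ η ∈ s, ∑ η' ∈ s, u η * v η' * z η η'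

/-- A tuple of vectors that is not constant modulo the radical. -/
theorem le_sum_norm_sub {p : ℕ} (c : ℤ) (hc : 0 ≤ c)
    (hmin : ∀ u, form s z u u = 0 ∨ c ≤ form s z u u) (w : Fin p → κ → ℤ) {a₀ b₀ : Fin p}
    (hne : form s z (w a₀ - w b₀) (w a₀ - w b₀) ≠ 0) :
    2 * c * ((p : ℤ) - 1) ≤ ∑ a, ∑ b, form s z (w a - w b) (w a - w b) := by
  have hnn : ∀ u, 0 ≤ form s z u u := fun u => (hmin u).elim (fun h => h.ge) hc.trans
  set f : Fin p → Fin p → ℤ := fun a b => form s z (w a - w b) (w a - w b) with hf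
  have hsym : ∀ a b, f a b = f b a := fun a b => by
    simp only [f, form]
    exact Finset.sum_congr rfl fun η _ => Finset.sum_congr rfl fun η' _ => by
      simp only [Pi.sub_apply]; ring
  have hdiag : ∀ a, f a a = 0 := fun a => by simp [f, form]
  have hab : a₀ ≠ b₀ := fun h => hne (by rw [h]; simp [form])
  have h2 : c ≤ f a₀ b₀ := (hmin _).resolve_left hne
  have hpair : ∀ b, c ≤ f a₀ b + f b₀ b := fun b => by
    rcases hmin (w a₀ - w b) with h | h
    · rcases hmin (w b₀ - w b) with h' | h'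
      · exfalso
        have hpar : form s z (w a₀ - w b₀) (w a₀ - w b₀) +
            form s z ((w a₀ - w b) + (w b₀ - w b)) ((w a₀ - w b) + (w b₀ - w b)) =
            2 * form s z (w a₀ - w b) (w a₀ - w b) + 2 * form s z (w b₀ - w b) (w b₀ - w b) := by
          simp only [form, Finset.mul_sum, ← Finset.sum_add_distrib]
          exact Finset.sum_congr rfl fun η _ => Finset.sum_congr rfl fun η' _ => by
            simp only [Pi.add_apply, Pi.sub_apply]; ring
        have := hnn ((w a₀ - w b) + (w b₀ - w b))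
        have := hnn (w a₀ - w b₀)
        rw [h, h'] at hpar
        exact hne (by linarith)
      · exact le_add_of_nonneg_of_le (hnn _) h'
    · exact le_add_of_le_of_nonneg h (hnn _)
  -- the rows of `a₀` and `b₀`
  have hrows : c * (p : ℤ) ≤ ∑ b, (f a₀ b + f b₀ b) := by
    have := Finset.card_nsmul_le_sum Finset.univ _ c fun b _ => hpair b
    simpa [mul_comm] using this
  have hsplit : ∀ g : Fin p → ℤ, ∑ b, g b = g a₀ + g b₀ +
      ∑ b ∈ Finset.univ \ {a₀, b₀}, g b := fun g => by
    rw [← Finset.sum_sdiff (Finset.subset_univ {a₀, b₀}), Finset.sum_pair hab, add_comm]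
  have hrest : c * ((p : ℤ) - 2) ≤ ∑ b ∈ Finset.univ \ {a₀, b₀}, (f a₀ b + f b₀ b) := by
    have := Finset.card_nsmul_le_sum (Finset.univ \ {a₀, b₀}) _ c fun b _ => hpair b
    rw [Finset.card_sdiff_of_subset (Finset.subset_univ _), Finset.card_pair hab, Finset.card_univ,
      Fintype.card_fin, nsmul_eq_mul, Nat.cast_sub (by
        simpa [Finset.card_pair hab] using Finset.card_le_univ ({a₀, b₀} : Finset (Fin p)))] at this
    push_cast at this
    linarith
  show 2 * c * ((p : ℤ) - 1) ≤ ∑ a, ∑ b, f a b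
  rw [hsplit fun a => ∑ b, f a b, hsplit (f a₀), hsplit (f b₀), hdiag, hdiag, hsym b₀ a₀]
  have hcol : ∑ b ∈ Finset.univ \ {a₀, b₀}, (f b a₀ + f b b₀) ≤
      ∑ a ∈ Finset.univ \ {a₀, b₀}, ∑ b, f a b := by
    refine Finset.sum_le_sum fun a _ => ?_
    rw [← Finset.sum_pair (f := f a) hab]
    exact Finset.sum_le_sum_of_subset_of_nonneg (Finset.subset_univ _) fun b _ _ => hnn _
  rw [Finset.sum_congr rfl fun b _ => by rw [hsym b a₀, hsym b b₀]] at hcol
  rw [Finset.sum_add_distrib] at hrest hcol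
  linarith

/-- The sum of the powers of all roots of unity of order dividing `n`. -/
theorem sum_range_pow_root {n : ℕ} {ζ : ℂ} (hζ : IsPrimitiveRoot ζ n) (j : ℕ) :
    ∑ i ∈ Finset.range n, (ζ ^ i) ^ j = if n ∣ j then (n : ℂ) else 0 := by
  simp only [← pow_mul, mul_comm _ j]
  simp only [pow_mul]
  split
  · next h =>
    rw [(hζ.pow_eq_one_iff_dvd j).2 h]
    simp
  · next h =>
    rw [geom_sum_eq (fun h1 => h ((hζ.pow_eq_one_iff_dvd j).1 h1)), ← pow_mul, mul_comm, pow_mul,
      hζ.pow_eq_one, one_pow, sub_self, zero_div]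

/-- The sum of the powers of the primitive roots of prime power order. -/
theorem sum_primitiveRoots_pow {p : ℕ} (hp : p.Prime) {k : ℕ} {ζ : ℂ}
    (hζ : IsPrimitiveRoot ζ (p ^ (k + 1))) (j : ℕ) :
    ∑ μ ∈ primitiveRoots (p ^ (k + 1)) ℂ, μ ^ j =
      (if p ^ (k + 1) ∣ j then ((p ^ (k + 1) : ℕ) : ℂ) else 0) -
        (if p ^ k ∣ j then ((p ^ k : ℕ) : ℂ) else 0) := by
  classical
  have hn : 0 < p ^ (k + 1) := pow_pos hp.pos _
  have hpow := hζ.pow hn (show p ^ (k + 1) = p * p ^ k by rw [pow_succ'])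
  rw [← sum_range_pow_root hζ j, ← sum_range_pow_root hpow j]
  have himg : primitiveRoots (p ^ (k + 1)) ℂ =
      ((Finset.range (p ^ (k + 1))).filter fun i => ¬ p ∣ i).image (ζ ^ ·) := by
    ext μ
    rw [mem_primitiveRoots hn, Finset.mem_image]
    constructor
    · intro hμ
      haveI : NeZero (p ^ (k + 1)) := ⟨hn.ne'⟩
      obtain ⟨i, hi, rfl⟩ := hζ.eq_pow_of_pow_eq_one hμ.pow_eq_one
      refine ⟨i, Finset.mem_filter.2 ⟨Finset.mem_range.2 hi, fun hd => ?_⟩, rfl⟩
      exact (hp.coprime_iff_not_dvd.1 ((((hζ.pow_iff_coprime hn i).1 hμ).coprime_dvd_right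
        (dvd_pow_self p (Nat.succ_ne_zero k))).symm)) hd
    · rintro ⟨i, hi, rfl⟩
      exact hζ.pow_of_coprime i
        (Nat.Coprime.pow_right _ ((hp.coprime_iff_not_dvd.2 (Finset.mem_filter.1 hi).2).symm))
  rw [himg, Finset.sum_image, eq_sub_iff_add_eq, ← Finset.sum_filter_add_sum_filter_not
    (Finset.range (p ^ (k + 1))) (fun i => ¬ p ∣ i)]
  · congr 1
    symm
    refine Finset.sum_nbij' (fun i => i / p) (fun i => p * i) ?_ ?_ ?_ ?_ fun i hi => ?_
    · intro i hi
      simp only [Finset.coe_filter, Finset.mem_range, not_not, Set.mem_setOf_eq, Finset.coe_range,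
        Set.mem_Iio, Finset.mem_filter] at hi ⊢
      exact (Nat.div_lt_iff_lt_mul hp.pos).2 (by rw [← pow_succ]; exact hi.1)
    · intro i hi
      simp only [Finset.coe_filter, Finset.mem_range, not_not, Set.mem_setOf_eq, Finset.coe_range,
        Set.mem_Iio, Finset.mem_filter] at hi ⊢
      exact ⟨by rw [pow_succ']; exact Nat.mul_lt_mul_of_pos_left hi hp.pos, dvd_mul_right p i⟩
    · intro i hi
      simp only [Finset.coe_filter, Finset.mem_range, not_not, Set.mem_setOf_eq,
        Finset.mem_filter] at hi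
      exact Nat.mul_div_cancel' hi.2
    · intro i _
      exact Nat.mul_div_cancel_left i hp.pos
    · simp only [Finset.mem_filter, not_not] at hi
      rw [← pow_mul ζ p, Nat.mul_div_cancel' hi.2]
  · intro i hi i' hi' e
    simp only [Finset.coe_filter, Finset.mem_range, Set.mem_setOf_eq] at hi hi'
    exact hζ.pow_inj hi.1 hi'.1 e

variable {ι : Type*} (n : ι → κ → ℕ) (e : κ → ℕ)

theorem card_mul_le_sum_re (hz : ∀ η ∈ s, ∀ η' ∈ s, z η' η = z η η') {p : ℕ} (hp : p.Prime)
    {k : ℕ} {ζ : ℂ} (hζ : IsPrimitiveRoot ζ (p ^ k)) (c : ℕ)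
    (hmin : ∀ u, form s z u u = 0 ∨ (c : ℤ) ≤ form s z u u) (χ : ι)
    (hpos : 0 < ∑ μ ∈ primitiveRoots (p ^ k) ℂ,
      (aeval μ (pairPoly s n e z (p ^ k) χ χ)).re) :
    (c : ℝ) * ((primitiveRoots (p ^ k) ℂ).card : ℝ) ≤
      ∑ μ ∈ primitiveRoots (p ^ k) ℂ, (aeval μ (pairPoly s n e z (p ^ k) χ χ)).re := by
  classical
  rw [← Complex.re_sum] at hpos ⊢
  rcases k with _ | k
  · have h1 : primitiveRoots (p ^ 0) ℂ = {1} := by rw [pow_zero]; exact IsPrimitiveRoot.primitiveRoots_one
    set N := form s z (fun η => n χ η) (fun η => n χ η) with hN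
    have hv : aeval (1 : ℂ) (pairPoly s n e z (p ^ 0) χ χ) = (N : ℂ) := by
      simp [pairPoly_aeval, N, form]
    rw [h1, Finset.sum_singleton, hv, Complex.intCast_re] at hpos ⊢
    rw [Finset.card_singleton, Nat.cast_one, mul_one]
    have h0 : N ≠ 0 := fun h => by rw [h, Int.cast_zero] at hpos; exact lt_irrefl _ hpos
    exact_mod_cast (hmin _).resolve_left h0
  set m := p ^ k with hm
  set q := p ^ (k + 1) with hq
  have hqm : q = m * p := by rw [hq, hm, pow_succ]
  have hm0 : 0 < m := pow_pos hp.pos k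
  have hq0 : 0 < q := pow_pos hp.pos _
  -- the vectors of the residues
  set w : ℕ → Fin p → κ → ℤ := fun t a η =>
    if e η % q = t + m * (a : ℕ) then (n χ η : ℤ) else 0 with hw
  set v : ℕ → κ → ℤ := fun t η => if e η % m = t then (n χ η : ℤ) else 0 with hv
  have hvw : ∀ t ∈ Finset.range m, ∀ η, v t η = ∑ a, w t a η := by
    intro t ht η
    rw [Finset.mem_range] at ht
    simp only [v, w]
    have hlt : e η % q / m < p := (Nat.div_lt_iff_lt_mul hm0).2 (by
      rw [mul_comm, ← hqm]; exact Nat.mod_lt _ hq0)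
    have hmod : e η % q % m = e η % m := Nat.mod_mod_of_dvd _ ⟨p, hqm⟩
    have hdm := Nat.mod_add_div (e η % q) m
    rw [hmod] at hdm
    by_cases h : e η % m = t
    · rw [if_pos h, Finset.sum_eq_single ⟨e η % q / m, hlt⟩ (fun a _ ha => if_neg fun h' => ha
        (Fin.ext ?_)) (by simp), if_pos]
      · show e η % q = t + m * (e η % q / m)
        omega
      · show (a : ℕ) = e η % q / m
        refine Nat.eq_of_mul_eq_mul_left hm0 ?_
        omega
    · rw [if_neg h, Finset.sum_eq_zero fun a _ => if_neg fun h' => h ?_]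
      rw [← hmod, h', Nat.add_mul_mod_self_left, Nat.mod_eq_of_lt ht]
  have hcount : ∀ η η', ∀ N, 0 < N → ∑ t ∈ Finset.range N,
      (if e η % N = t then (n χ η : ℤ) else 0) * (if e η' % N = t then (n χ η' : ℤ) else 0) =
      if e η % N = e η' % N then (n χ η : ℤ) * (n χ η' : ℤ) else 0 := by
    intro η η' N hN
    rw [Finset.sum_eq_single (e η % N) (fun t _ ht => by rw [if_neg ht.symm, zero_mul])
      (fun h => absurd (Finset.mem_range.2 (Nat.mod_lt _ hN)) h), if_pos rfl]
    by_cases h : e η % N = e η' % N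
    · rw [if_pos h, if_pos h.symm]
    · rw [if_neg h, if_neg fun h' => h h'.symm, mul_zero]
  have hdvd : ∀ N, N ∣ q → ∀ η η', (N ∣ e η + (q - 1) * e η') ↔ e η % N = e η' % N := by
    intro N hN η η'
    have h1 : ((e η + (q - 1) * e η' : ℕ) : ZMod N) = (e η : ZMod N) - (e η' : ZMod N) := by
      push_cast [Nat.cast_sub (show 1 ≤ q from hq0)]
      rw [(ZMod.natCast_eq_zero_iff q N).2 hN] at *
      ring
    rw [← ZMod.natCast_eq_zero_iff, h1, sub_eq_zero, ZMod.natCast_eq_natCast_iff']
  set S₁ := ∑ t ∈ Finset.range q, form s z (fun η => if e η % q = t then (n χ η : ℤ) else 0)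
    (fun η => if e η % q = t then (n χ η : ℤ) else 0) with hS₁
  set S₂ := ∑ t ∈ Finset.range m, form s z (v t) (v t) with hS₂
  have hS : ∀ N, 0 < N → N ∣ q → ((∑ t ∈ Finset.range N,
      form s z (fun η => if e η % N = t then (n χ η : ℤ) else 0)
      (fun η => if e η % N = t then (n χ η : ℤ) else 0) : ℤ) : ℂ) =
      ∑ η ∈ s, ∑ η' ∈ s, (n χ η : ℂ) * (n χ η' : ℂ) * (z η η' : ℂ) *
        if N ∣ e η + (q - 1) * e η' then 1 else 0 := by
    intro N hN hNq
    simp only [form]
    rw [Finset.sum_comm, Int.cast_sum]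
    refine Finset.sum_congr rfl fun η _ => ?_
    rw [Finset.sum_comm, Int.cast_sum]
    refine Finset.sum_congr rfl fun η' _ => ?_
    rw [← Finset.sum_mul, hcount η η' N hN, if_congr (hdvd N hNq η η') rfl rfl]
    split <;> push_cast <;> ring
  have hsum : ∑ μ ∈ primitiveRoots q ℂ, aeval μ (pairPoly s n e z q χ χ) =
      ((((q : ℤ) * S₁ - (m : ℤ) * S₂ : ℤ)) : ℂ) := by
    push_cast
    rw [hS₁, hS q hq0 dvd_rfl, hS₂, hS m hm0 ⟨p, hqm⟩]
    simp only [pairPoly_aeval]
    rw [Finset.sum_comm, Finset.mul_sum, Finset.mul_sum, ← Finset.sum_sub_distrib]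
    refine Finset.sum_congr rfl fun η _ => ?_
    rw [Finset.sum_comm, Finset.mul_sum, Finset.mul_sum, ← Finset.sum_sub_distrib]
    refine Finset.sum_congr rfl fun η' _ => ?_
    rw [← Finset.mul_sum, hq, sum_primitiveRoots_pow hp hζ]
    split_ifs <;> ring
  have hpairs : 2 * ((q : ℤ) * S₁ - (m : ℤ) * S₂) = (m : ℤ) * ∑ t ∈ Finset.range m,
      ∑ a, ∑ b, form s z (w t a - w t b) (w t a - w t b) := by
    have hinner : ∀ t ∈ Finset.range m, ∑ a, ∑ b, form s z (w t a - w t b) (w t a - w t b) =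
        2 * (p : ℤ) * ∑ a, form s z (w t a) (w t a) - 2 * form s z (v t) (v t) := by
      intro t ht
      simp only [form, Pi.sub_apply, hvw t ht]
      have e1 : ∀ a b, ∑ η ∈ s, ∑ η' ∈ s, (w t a η - w t b η) * (w t a η' - w t b η') * z η η' =
          (∑ η ∈ s, ∑ η' ∈ s, w t a η * w t a η' * z η η') +
          (∑ η ∈ s, ∑ η' ∈ s, w t b η * w t b η' * z η η') -
          2 * ∑ η ∈ s, ∑ η' ∈ s, w t a η * w t b η' * z η η' := by
        intro a b
        have e2 : ∑ η ∈ s, ∑ η' ∈ s, w t b η * w t a η' * z η η' =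
            ∑ η ∈ s, ∑ η' ∈ s, w t a η * w t b η' * z η η' := by
          rw [Finset.sum_comm]
          exact Finset.sum_congr rfl fun η hη => Finset.sum_congr rfl fun η' hη' => by
            rw [hz η hη η' hη']; ring
        rw [two_mul]
        conv_rhs => arg 2; arg 1; rw [← e2]
        simp only [← Finset.sum_add_distrib, ← Finset.sum_sub_distrib]
        exact Finset.sum_congr rfl fun η _ => Finset.sum_congr rfl fun η' _ => by ring
      simp only [e1, Finset.sum_sub_distrib, Finset.sum_add_distrib, Finset.sum_const,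
        Finset.card_univ, Fintype.card_fin, nsmul_eq_mul, ← Finset.mul_sum]
      have e3 : ∑ a, ∑ b, ∑ η ∈ s, ∑ η' ∈ s, w t a η * w t b η' * z η η' =
          ∑ η ∈ s, ∑ η' ∈ s, (∑ a, w t a η) * (∑ b, w t b η') * z η η' := by
        simp only [Finset.sum_mul, Finset.mul_sum]
        rw [Finset.sum_comm, Finset.sum_congr rfl fun b _ => Finset.sum_comm, Finset.sum_comm]
        refine Finset.sum_congr rfl fun η _ => ?_
        rw [Finset.sum_congr rfl fun b _ => Finset.sum_comm, Finset.sum_comm]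
      rw [e3]
      ring
    have hreidx : S₁ = ∑ t ∈ Finset.range m, ∑ a, form s z (w t a) (w t a) := by
      rw [hS₁, Finset.sum_comm]
      simp only [w]
      rw [show q = p * m by rw [hqm, mul_comm]]
      rw [← Finset.sum_product' (Finset.univ : Finset (Fin p)) (Finset.range m)]
      refine (Finset.sum_nbij' (fun x : Fin p × ℕ => x.2 + m * (x.1 : ℕ))
        (fun i => ((⟨(i / m) % p, Nat.mod_lt _ hp.pos⟩ : Fin p), i % m)) ?_ ?_ ?_ ?_
        fun x _ => rfl).symm
      · intro x hx
        simp only [Finset.coe_product, Finset.coe_univ, Finset.coe_range, Set.mem_prod,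
          Set.mem_univ, true_and, Set.mem_Iio, Finset.mem_product, Finset.mem_range,
          Finset.mem_univ] at hx ⊢
        have := x.1.2
        calc x.2 + m * (x.1 : ℕ) < m * ((x.1 : ℕ) + 1) := by rw [Nat.mul_succ]; omega
          _ ≤ m * p := Nat.mul_le_mul_left m (by omega)
          _ = p * m := mul_comm m p
      · intro i _
        simp [Nat.mod_lt _ hm0]
      · rintro ⟨a, t⟩ hx
        simp only [Finset.coe_product, Finset.coe_univ, Finset.coe_range, Set.mem_prod,
          Set.mem_univ, true_and, Set.mem_Iio, Finset.mem_product, Finset.mem_range,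
          Finset.mem_univ] at hx
        refine Prod.ext (Fin.ext ?_) ?_
        · show (t + m * (a : ℕ)) / m % p = a
          rw [Nat.add_mul_div_left _ _ hm0, Nat.div_eq_of_lt hx, zero_add, Nat.mod_eq_of_lt a.2]
        · show (t + m * (a : ℕ)) % m = t
          rw [Nat.add_mul_mod_self_left, Nat.mod_eq_of_lt hx]
      · intro i hi
        simp only [Finset.coe_range, Set.mem_Iio, Finset.mem_range] at hi
        show i % m + m * (i / m % p) = i
        rw [Nat.mod_eq_of_lt ((Nat.div_lt_iff_lt_mul hm0).2 hi), Nat.mod_add_div]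
    rw [Finset.sum_congr rfl hinner, Finset.sum_sub_distrib, ← Finset.mul_sum, ← Finset.mul_sum,
      ← hS₂, ← hreidx, hqm]
    push_cast
    ring
  rw [hsum, Complex.intCast_re] at hpos ⊢
  have hposZ : 0 < (q : ℤ) * S₁ - (m : ℤ) * S₂ := by exact_mod_cast hpos
  obtain ⟨t, ht, a, -, b, -, hne⟩ : ∃ t ∈ Finset.range m, ∃ a ∈ (Finset.univ : Finset (Fin p)),
      ∃ b ∈ (Finset.univ : Finset (Fin p)), form s z (w t a - w t b) (w t a - w t b) ≠ 0 := by
    by_contra hcon
    push Not at hcon
    rw [Finset.sum_eq_zero fun t ht => Finset.sum_eq_zero fun a ha => Finset.sum_eq_zero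
      fun b hb => hcon t ht a ha b hb, mul_zero] at hpairs
    omega
  have h1 := le_sum_norm_sub s z (c : ℤ) (Int.natCast_nonneg c) hmin (w t) hne
  have h2 : ∑ a, ∑ b, form s z (w t a - w t b) (w t a - w t b) ≤
      ∑ t ∈ Finset.range m, ∑ a, ∑ b, form s z (w t a - w t b) (w t a - w t b) :=
    Finset.single_le_sum (f := fun t => ∑ a, ∑ b, form s z (w t a - w t b) (w t a - w t b))
      (fun t' _ => Finset.sum_nonneg fun a _ => Finset.sum_nonneg fun b _ =>
        (hmin _).elim (fun h => h.ge) (Int.natCast_nonneg c).trans) ht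
  have h3 : (c : ℤ) * ((m : ℤ) * ((p : ℤ) - 1)) ≤ (q : ℤ) * S₁ - (m : ℤ) * S₂ := by
    have := mul_le_mul_of_nonneg_left (h1.trans h2) (Int.natCast_nonneg m)
    rw [← hpairs] at this
    linarith
  have hcard : ((primitiveRoots q ℂ).card : ℤ) = (m : ℤ) * ((p : ℤ) - 1) := by
    rw [hζ.card_primitiveRoots, hq, Nat.totient_prime_pow hp (Nat.succ_pos k), Nat.succ_sub_one,
      ← hm, Nat.cast_mul, Nat.cast_sub hp.one_le, Nat.cast_one]
  rw [← hcard] at h3
  exact_mod_cast h3

end Cfsg.Agent.CharTheory.MajorContrib
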