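import Mathlib

/-!
# Integral forms of symmetric integral multiples of projections

An integral symmetric matrix `z` with `z * z = D • z` and trace `D * l` is `W Q Wᵀ` with integral
`W` of `l` columns and integral `Q`.  For `l = 2` the form `Q` may be taken reduced.
-/

namespace Cfsg.Agent.CharTheory.MajorContrib

open Matrix

theorem exists_form_saturated {κ : Type*} [Fintype κ] [DecidableEq κ] (Z : Matrix κ κ ℤ) (D : ℤ)
    (hD : D ≠ 0) (l : ℕ) (hsym : Zᵀ = Z) (hsq : Z * Z = D • Z) (htr : Z.trace = D * l) :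
    ∃ (W : Matrix κ (Fin l) ℤ) (Q : Matrix (Fin l) (Fin l) ℤ),
      Z = W * Q * Wᵀ ∧ Q * (Wᵀ * W) = D • (1 : Matrix (Fin l) (Fin l) ℤ) ∧
      (∃ U : Matrix (Fin l) κ ℤ, Q = U * Z * Uᵀ) ∧
      ∀ v : κ → ℤ, Z *ᵥ v = D • v → ∃ c, W *ᵥ c = v := by
  classical
  set f : (κ → ℤ) →ₗ[ℤ] (κ → ℤ) := (Z - D • (1 : Matrix κ κ ℤ)).mulVecLin with hf
  set L := LinearMap.ker f with hL
  have hmem : ∀ v, v ∈ L ↔ Z *ᵥ v = D • v := fun v => by
    simp [L, f, sub_mulVec, smul_mulVec, sub_eq_zero]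
  obtain ⟨r, bL⟩ := Submodule.basisOfPid (Pi.basisFun ℤ κ) L
  obtain ⟨g, hg⟩ := Module.projective_lifting_property f.rangeRestrict LinearMap.id
    f.surjective_rangeRestrict
  set π : (κ → ℤ) →ₗ[ℤ] L := LinearMap.codRestrict L
    (LinearMap.id - g.comp f.rangeRestrict) fun v => by
      have h := congrArg Subtype.val (LinearMap.congr_fun hg (f.rangeRestrict v))
      simp only [LinearMap.coe_comp, Function.comp_apply, LinearMap.codRestrict_apply,
        LinearMap.id_coe, id_eq] at h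
      rw [hL, LinearMap.mem_ker, LinearMap.sub_apply, map_sub, LinearMap.id_apply,
        LinearMap.comp_apply, sub_eq_zero]
      exact h.symm
  have hπ : ∀ v : L, π v = v := fun v => Subtype.ext (by
    have h0 : f.rangeRestrict (v : κ → ℤ) = 0 := Subtype.ext (LinearMap.mem_ker.1 v.2)
    simp [π, h0])
  set U : Matrix (Fin r) κ ℤ := LinearMap.toMatrix' (bL.equivFun.toLinearMap.comp π) with hU
  set W : Matrix κ (Fin r) ℤ := Matrix.of fun η i => (bL i : κ → ℤ) η with hW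
  have hWv : ∀ c : Fin r → ℤ, W *ᵥ c = ((bL.equivFun.symm c : L) : κ → ℤ) := fun c => by
    rw [Module.Basis.equivFun_symm_apply]
    ext η
    simp [W, mulVec, dotProduct, Finset.sum_apply, mul_comm]
  have hUv : ∀ v : κ → ℤ, U *ᵥ v = bL.equivFun (π v) := fun v => by
    simp [U, LinearMap.toMatrix'_mulVec]
  have hWU : ∀ v : L, W *ᵥ (U *ᵥ (v : κ → ℤ)) = v := fun v => by
    rw [hUv, hπ, hWv, LinearEquiv.symm_apply_apply]
  have hUW : U * W = 1 := by
    refine Matrix.ext_of_mulVec_single fun i => ?_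
    rw [← mulVec_mulVec, hWv, hUv, hπ, LinearEquiv.apply_symm_apply, one_mulVec]
  have hcol : ∀ c, Z *ᵥ c ∈ L := fun c => by
    rw [hmem, mulVec_mulVec, hsq, smul_mulVec]
  have hWUZ : W * U * Z = Z := by
    refine Matrix.ext_of_mulVec_single fun i => ?_
    rw [← mulVec_mulVec, ← mulVec_mulVec]
    exact hWU ⟨_, hcol _⟩
  have hZW : Z * W = D • W := by
    refine Matrix.ext_of_mulVec_single fun i => ?_
    rw [← mulVec_mulVec, smul_mulVec, hWv]
    exact (hmem _).1 (bL.equivFun.symm _).2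
  set Q := U * Z * Uᵀ with hQ
  have hrep : Z = W * Q * Wᵀ := by
    have h2 : Z * Uᵀ * Wᵀ = Z := by
      have := congrArg Matrix.transpose hWUZ
      rwa [transpose_mul, transpose_mul, hsym, ← Matrix.mul_assoc] at this
    calc Z = W * U * Z := hWUZ.symm
      _ = W * U * (Z * Uᵀ * Wᵀ) := by rw [h2]
      _ = _ := by rw [hQ]; simp only [Matrix.mul_assoc]
  have hG : Q * (Wᵀ * W) = D • (1 : Matrix (Fin r) (Fin r) ℤ) := by
    have h1 : U * (Z * W) = Q * (Wᵀ * W) := by
      conv_lhs => rw [hrep]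
      rw [Matrix.mul_assoc W, Matrix.mul_assoc W, ← Matrix.mul_assoc U W, hUW, Matrix.one_mul,
        Matrix.mul_assoc]
    rw [← h1, hZW, Matrix.mul_smul, hUW]
  have hr : r = l := by
    have h1 : Z.trace = (Q * (Wᵀ * W)).trace := by
      rw [hrep, Matrix.mul_assoc, Matrix.trace_mul_comm, Matrix.mul_assoc]
    rw [htr, hG, trace_smul, trace_one, Fintype.card_fin, smul_eq_mul] at h1
    exact_mod_cast (mul_left_cancel₀ hD h1).symm
  subst hr
  exact ⟨W, Q, hrep, hG, ⟨U, hQ⟩, fun v hv => ⟨U *ᵥ v, hWU ⟨v, (hmem v).2 hv⟩⟩⟩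

theorem exists_form {κ : Type*} [Fintype κ] [DecidableEq κ] (Z : Matrix κ κ ℤ) (D : ℤ) (hD : D ≠ 0)
    (l : ℕ) (hsym : Zᵀ = Z) (hsq : Z * Z = D • Z) (htr : Z.trace = D * l) :
    ∃ (W : Matrix κ (Fin l) ℤ) (Q : Matrix (Fin l) (Fin l) ℤ),
      Z = W * Q * Wᵀ ∧ Q * (Wᵀ * W) = D • (1 : Matrix (Fin l) (Fin l) ℤ) ∧
      ∃ U : Matrix (Fin l) κ ℤ, Q = U * Z * Uᵀ := by
  obtain ⟨W, Q, h1, h2, h3, -⟩ := exists_form_saturated Z D hD l hsym hsq htr
  exact ⟨W, Q, h1, h2, h3⟩

/-- A positive binary form can be reduced. -/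
theorem exists_reduced {κ : Type*} (z : κ → κ → ℤ) : ∀ (m : ℕ) (a c b : ℤ) (u v : κ → ℤ),
    a + b ≤ m → 0 < a → 0 < b → c * c < a * b →
    (∀ η η', z η η' = a * (u η * u η') + c * (u η * v η' + v η * u η') + b * (v η * v η')) →
    ∃ (a c b : ℤ) (u v : κ → ℤ), 0 < a ∧ 0 < b ∧ 2 * |c| ≤ a ∧ 2 * |c| ≤ b ∧
      ∀ η η', z η η' = a * (u η * u η') + c * (u η * v η' + v η * u η') + b * (v η * v η')
  | 0, a, c, b, u, v, hm, ha, hb, _, _ => by omega
  | m + 1, a, c, b, u, v, hm, ha, hb, hd, hz => by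
    by_cases h1 : a < 2 * |c|
    · obtain ⟨t, ht, htc⟩ : ∃ t : ℤ, t * t = 1 ∧ t * c = -|c| := by
        rcases abs_cases c with ⟨e, -⟩ | ⟨e, -⟩
        · exact ⟨-1, by norm_num, by rw [e]; ring⟩
        · exact ⟨1, by norm_num, by rw [e]; ring⟩
      have hdet : a * (a + 2 * (t * c) + b) - (a * t + c) * (a * t + c) = a * b - c * c := by
        linear_combination (-(a * a)) * ht
      refine exists_reduced z m a (a * t + c) (a + 2 * (t * c) + b) (fun η => u η - t * v η) v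
        (by omega) ha ?_ (by omega) fun η η' => ?_
      · nlinarith [mul_self_nonneg (a * t + c)]
      · rw [hz η η']
        linear_combination (a * v η * v η') * ht
    · by_cases h2 : b < 2 * |c|
      · obtain ⟨t, ht, htc⟩ : ∃ t : ℤ, t * t = 1 ∧ t * c = -|c| := by
          rcases abs_cases c with ⟨e, -⟩ | ⟨e, -⟩
          · exact ⟨-1, by norm_num, by rw [e]; ring⟩
          · exact ⟨1, by norm_num, by rw [e]; ring⟩
        have hdet : (b + 2 * (t * c) + a) * b - (b * t + c) * (b * t + c) = a * b - c * c := by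
          linear_combination (-(b * b)) * ht
        refine exists_reduced z m (b + 2 * (t * c) + a) (b * t + c) b u (fun η => v η - t * u η)
          (by omega) ?_ hb (by omega) fun η η' => ?_
        · nlinarith [mul_self_nonneg (b * t + c)]
        · rw [hz η η']
          linear_combination (b * u η * u η') * ht
      · exact ⟨a, c, b, u, v, ha, hb, not_lt.1 h1, not_lt.1 h2, hz⟩

/-- The reduced binary form of a rank two table. -/
theorem exists_binary {κ : Type*} (s : Finset κ) (z : κ → κ → ℤ) (D : ℤ) (hD : 0 < D)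
    (hsym : ∀ η ∈ s, ∀ η' ∈ s, z η' η = z η η')
    (hsq : ∀ η ∈ s, ∀ η' ∈ s, ∑ θ ∈ s, z η θ * z θ η' = D * z η η')
    (htr : ∑ η ∈ s, z η η = D * (2 : ℕ)) :
    ∃ (a c b : ℤ) (u v : κ → ℤ), 0 < a ∧ 0 < b ∧ 2 * |c| ≤ a ∧ 2 * |c| ≤ b ∧
      ∀ η ∈ s, ∀ η' ∈ s,
        z η η' = a * (u η * u η') + c * (u η * v η' + v η * u η') + b * (v η * v η') := by
  classical
  obtain ⟨W, Q, hrep, hG, -⟩ := exists_form (Matrix.of fun η η' : s => z η η') D hD.ne' 2
    (Matrix.ext fun η η' => hsym η η.2 η' η'.2)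
    (Matrix.ext fun η η' => by
      simp only [mul_apply, of_apply, Matrix.smul_apply, smul_eq_mul]
      rw [Finset.sum_coe_sort s fun θ => z η θ * z θ η']
      exact hsq η η.2 η' η'.2)
    (by
      simp only [trace, diag_apply, of_apply]
      rw [Finset.sum_coe_sort s fun θ => z θ θ]
      exact htr)
  have hz : ∀ η η' : s, z η η' = W η 0 * Q 0 0 * W η' 0 + W η 0 * Q 0 1 * W η' 1 +
      W η 1 * Q 1 0 * W η' 0 + W η 1 * Q 1 1 * W η' 1 := fun η η' => by
    have h := congrFun (congrFun hrep η) η'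
    simp only [of_apply] at h
    rw [h]
    simp only [mul_apply, Fin.sum_univ_two, transpose_apply]
    ring
  set g00 := ∑ η : s, W η 0 * W η 0
  set g01 := ∑ η : s, W η 0 * W η 1
  set g11 := ∑ η : s, W η 1 * W η 1
  have h10 : ∑ η : s, W η 1 * W η 0 = g01 := Finset.sum_congr rfl fun _ _ => mul_comm _ _
  have e : ∀ i j : Fin 2, Q i 0 * (Wᵀ * W) 0 j + Q i 1 * (Wᵀ * W) 1 j =
      if i = j then D else 0 := fun i j => by
    have h := congrFun (congrFun hG i) j
    rw [mul_apply, Fin.sum_univ_two, Matrix.smul_apply, one_apply, smul_eq_mul, mul_ite, mul_one,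
      mul_zero] at h
    exact h
  have e00 := e 0 0; have e01 := e 0 1; have e10 := e 1 0; have e11 := e 1 1
  simp only [mul_apply, transpose_apply, h10, Fin.reduceEq, if_true, if_false] at e00 e01 e10 e11
  have hcs : g01 * g01 ≤ g00 * g11 := by
    have := Finset.sum_mul_sq_le_sq_mul_sq Finset.univ (fun η => W η 0) (fun η => W η 1)
    simpa [g00, g01, g11, sq] using this
  have hdet : (Q 0 0 * Q 1 1 - Q 0 1 * Q 1 0) * (g00 * g11 - g01 * g01) = D * D := by
    linear_combination (Q 1 0 * g01 + Q 1 1 * g11) * e00 - (Q 1 0 * g00 + Q 1 1 * g01) * e01 +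
      D * e11
  have hGpos : 0 < g00 * g11 - g01 * g01 := by
    rcases eq_or_lt_of_le (sub_nonneg.2 hcs) with h | h
    · rw [← h, mul_zero] at hdet; nlinarith
    · exact h
  have hQpos : 0 < Q 0 0 * Q 1 1 - Q 0 1 * Q 1 0 := by nlinarith
  have h11 : 0 ≤ g11 := Finset.sum_nonneg fun _ _ => mul_self_nonneg _
  have h00 : 0 ≤ g00 := Finset.sum_nonneg fun _ _ => mul_self_nonneg _
  have h11' : 0 < g11 := by nlinarith [mul_self_nonneg g01]
  have h00' : 0 < g00 := by nlinarith [mul_self_nonneg g01]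
  have ha : Q 0 0 * (g00 * g11 - g01 * g01) = D * g11 := by
    linear_combination g11 * e00 - g01 * e01
  have hb : Q 1 1 * (g00 * g11 - g01 * g01) = D * g00 := by
    linear_combination g00 * e11 - g01 * e10
  have hc : (Q 0 1 - Q 1 0) * (g00 * g11 - g01 * g01) = 0 := by
    linear_combination g00 * e01 - g01 * e00 - g11 * e10 + g01 * e11
  have hsy : Q 1 0 = Q 0 1 := by
    rcases mul_eq_zero.1 hc with h | h
    · omega
    · omega
  set u : κ → ℤ := fun η => if h : η ∈ s then W ⟨η, h⟩ 0 else 0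
  set v : κ → ℤ := fun η => if h : η ∈ s then W ⟨η, h⟩ 1 else 0
  obtain ⟨a, c, b, u', v', h1, h2, h3, h4, h5⟩ := exists_reduced
    (fun η η' : s => z η η') (Q 0 0 + Q 1 1).toNat (Q 0 0) (Q 0 1) (Q 1 1) (fun η => u η) (fun η => v η)
    (Int.self_le_toNat _) (by nlinarith) (by nlinarith) (by rw [hsy] at hQpos; linarith)
    (fun η η' => by
      simp only [u, v, dif_pos η.2, dif_pos η'.2, Subtype.coe_eta]
      rw [hz η η', hsy]; ring)
  refine ⟨a, c, b, fun η => if h : η ∈ s then u' ⟨η, h⟩ else 0,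
    fun η => if h : η ∈ s then v' ⟨η, h⟩ else 0, h1, h2, h3, h4, fun η hη η' hη' => ?_⟩
  simp only [dif_pos hη, dif_pos hη']
  exact h5 ⟨η, hη⟩ ⟨η', hη'⟩

end Cfsg.Agent.CharTheory.MajorContrib
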