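import Mathlib
import Cfsg.Agent.Lib.CharTheory.MajorContrib.Table
import Cfsg.Agent.Lib.CharTheory.MajorContrib.Form

/-!
# Bounds on the number of characters from a major subsection of small rank
-/

set_option linter.style.haveILetI false
set_option linter.unusedSectionVars false

namespace Cfsg.Agent.CharTheory.MajorContrib

open Cfsg.Agent.Blocks Cfsg.Agent.Characters Cfsg.Agent.BlockCharsA
open Cfsg.Agent.BlockCharsA.Subsection Polynomial
open scoped ComplexConjugate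

universe u

/-- The squared norms of a nonzero value sum to at least the number of conjugates. -/
theorem card_le_sum_norm_sq {q : ℕ} (hq : 0 < q) {ζ : ℂ} (hζ : IsPrimitiveRoot ζ q) (Q : ℤ[X])
    (hne : aeval ζ Q ≠ 0) :
    ((primitiveRoots q ℂ).card : ℝ) ≤ ∑ μ ∈ primitiveRoots q ℂ, ‖aeval μ Q‖ ^ 2 ∧
    ((primitiveRoots q ℂ).card : ℝ) ≤ ∑ μ ∈ primitiveRoots q ℂ, ‖aeval μ Q‖ := by
  set P := Q.map (Int.castRingHom ℚ) with hP
  have hev : ∀ μ : ℂ, aeval μ P = aeval μ Q := fun μ => by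
    simp only [P, ← algebraMap_int_eq, aeval_map_algebraMap]
  have hnz : ∀ μ ∈ primitiveRoots q ℂ, aeval μ P ≠ 0 := fun μ hμ h0 => hne (by
    rw [← hev, aeval_eq_rat_of_primitive hq ((mem_primitiveRoots hq).1 hμ) hζ P (q := 0)
      (by simp [h0]), Rat.cast_zero])
  have hprod := one_le_prod_norm_primitiveRoots hq P (fun μ hμ => by
    rw [hev]
    exact adjoin_le_integralClosure (((mem_primitiveRoots hq).1 hμ).isIntegral hq)
      (aeval_mem_adjoin_singleton ℤ μ)) hnz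
  simp only [hev] at hnz hprod
  have main : ∀ a : ℕ, ((primitiveRoots q ℂ).card : ℝ) ≤
      ∑ μ ∈ primitiveRoots q ℂ, ‖aeval μ Q‖ ^ a := by
    intro a
    have hpos : ∀ μ ∈ primitiveRoots q ℂ, 0 < ‖aeval μ Q‖ ^ a := fun μ hμ =>
      pow_pos (norm_pos_iff.2 (hnz μ hμ)) a
    have hlog : 0 ≤ ∑ μ ∈ primitiveRoots q ℂ, Real.log (‖aeval μ Q‖ ^ a) := by
      rw [← Real.log_prod (fun μ hμ => (hpos μ hμ).ne'), Finset.prod_pow]
      exact Real.log_nonneg (one_le_pow₀ hprod)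
    have h2 := hlog.trans (Finset.sum_le_sum fun μ hμ => Real.log_le_sub_one_of_pos (hpos μ hμ))
    rw [Finset.sum_sub_distrib, sub_nonneg, Finset.sum_const, nsmul_one] at h2
    exact h2
  exact ⟨main 2, by simpa using main 1⟩

variable {G : Type u} [Group G] [Finite G] [Fintype (Cfsg.IrrCharacter G)] {κ : Type*} {p : ℕ}
  {M : Ideal Cfsg.AlgInt} {B : Set (Cfsg.IrrCharacter G)} [DecidablePred (· ∈ B)] {k : ℕ} {ζ : ℂ}
  {d l : ℕ} {bs : Finset κ} {n : Cfsg.IrrCharacter G → κ → ℕ} {e : κ → ℕ} {z : κ → κ → ℤ}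
  (hM : Cfsg.IsPModular p M) (hB : Cfsg.IsPBlock M B) (hζ : IsPrimitiveRoot ζ (p ^ k))
  (htab : IsTable p M B k ζ d l bs n e z)

/-- The sum over the conjugates of a diagonal contribution. -/
noncomputable def diagSum (k : ℕ) (bs : Finset κ) (n : Cfsg.IrrCharacter G → κ → ℕ) (e : κ → ℕ)
    (z : κ → κ → ℤ) (p : ℕ) (χ : Cfsg.IrrCharacter G) : ℝ :=
  ∑ μ ∈ primitiveRoots (p ^ k) ℂ, (aeval μ (pairPoly bs n e z (p ^ k) χ χ)).re

include hM hB hζ htab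

theorem exists_quot {ψ χ : Cfsg.IrrCharacter G} (hψ : ψ ∈ B) (hχ : χ ∈ B) :
    ∃ Q : ℤ[X], (∀ μ : ℂ, IsPrimitiveRoot μ (p ^ k) → aeval μ (pairPoly bs n e z (p ^ k) ψ χ) =
        (p : ℂ) ^ Cfsg.blockHeight p B (ψ : G → ℂ) * aeval μ Q) ∧
      (Cfsg.MemLocalIdeal M (aeval ζ Q) ↔ Cfsg.blockHeight p B (χ : G → ℂ) ≠ 0) := by
  obtain ⟨Q, hQ⟩ := exists_div_pow hM hζ _ _ (htab.div ψ hψ χ hχ)
  refine ⟨Q, hQ, ?_⟩
  have h := htab.unit_iff ψ hψ χ hχ
  rwa [hQ ζ hζ, mul_div_cancel_left₀ _ (pow_ne_zero _ (Nat.cast_ne_zero.2 hM.1.ne_zero))] at h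

theorem ne_zero_of_height_zero {ψ χ : Cfsg.IrrCharacter G} (hψ : ψ ∈ B) (hχ : χ ∈ B)
    (h0 : Cfsg.blockHeight p B (χ : G → ℂ) = 0) :
    aeval ζ (pairPoly bs n e z (p ^ k) ψ χ) ≠ 0 ∧ aeval ζ (pairPoly bs n e z (p ^ k) χ ψ) ≠ 0 := by
  have h1 : aeval ζ (pairPoly bs n e z (p ^ k) ψ χ) ≠ 0 := fun he =>
    (htab.unit_iff ψ hψ χ hχ).1 (by rw [he, zero_div]; exact ideal_zero hM) h0
  refine ⟨h1, fun he => h1 ?_⟩
  rw [← pairPoly_conj bs n e z (pow_ne_zero _ hM.1.ne_zero) htab.sym χ ψ hζ.pow_eq_one, he, map_zero]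

theorem diag_eq {μ : ℂ} (hμ : μ ∈ primitiveRoots (p ^ k) ℂ) (χ : Cfsg.IrrCharacter G) :
    0 ≤ (aeval μ (pairPoly bs n e z (p ^ k) χ χ)).re ∧
    ((aeval μ (pairPoly bs n e z (p ^ k) χ χ)).re : ℂ) = aeval μ (pairPoly bs n e z (p ^ k) χ χ) ∧
    ‖aeval μ (pairPoly bs n e z (p ^ k) χ χ)‖ = (aeval μ (pairPoly bs n e z (p ^ k) χ χ)).re ∧
    ∑ ψ ∈ Finset.univ.filter (· ∈ B), ‖aeval μ (pairPoly bs n e z (p ^ k) χ ψ)‖ ^ 2 =
      ((p : ℝ) ^ d) * (aeval μ (pairPoly bs n e z (p ^ k) χ χ)).re := by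
  have h := htab.row μ hμ χ
  have him : (aeval μ (pairPoly bs n e z (p ^ k) χ χ)).im = 0 :=
    Complex.conj_eq_iff_im.1 (pairPoly_conj bs n e z (pow_ne_zero _ hM.1.ne_zero) htab.sym χ χ
      ((mem_primitiveRoots (pow_pos hM.1.pos k)).1 hμ).pow_eq_one)
  set A := aeval μ (pairPoly bs n e z (p ^ k) χ χ) with hA
  have hAre : ((A.re : ℝ) : ℂ) = A := Complex.ext rfl (by simp [him])
  have hrow : ∑ ψ ∈ Finset.univ.filter (· ∈ B), ‖aeval μ (pairPoly bs n e z (p ^ k) χ ψ)‖ ^ 2 =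
      ((p : ℝ) ^ d) * A.re := by
    have h' := congrArg Complex.re h
    rw [Complex.ofReal_re] at h'
    rw [h', Complex.mul_re, Complex.natCast_re, Complex.natCast_im]
    push_cast
    ring
  have hnn : 0 ≤ A.re := by
    have h2 : 0 ≤ ∑ ψ ∈ Finset.univ.filter (· ∈ B),
        ‖aeval μ (pairPoly bs n e z (p ^ k) χ ψ)‖ ^ 2 := Finset.sum_nonneg fun _ _ => sq_nonneg _
    have hp : (0 : ℝ) < (p : ℝ) ^ d := pow_pos (Nat.cast_pos.2 hM.1.pos) d
    nlinarith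
  refine ⟨hnn, hAre, ?_, hrow⟩
  conv_lhs => rw [← hAre]
  rw [Complex.norm_real, Real.norm_eq_abs, abs_of_nonneg hnn]

theorem sum_row (χ : Cfsg.IrrCharacter G) :
    ∑ ψ ∈ Finset.univ.filter (· ∈ B), ∑ μ ∈ primitiveRoots (p ^ k) ℂ,
        ‖aeval μ (pairPoly bs n e z (p ^ k) χ ψ)‖ ^ 2 = ((p : ℝ) ^ d) * diagSum k bs n e z p χ := by
  rw [Finset.sum_comm, diagSum, Finset.mul_sum]
  exact Finset.sum_congr rfl fun μ hμ => (diag_eq hM hB hζ htab hμ χ).2.2.2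

theorem sum_diagSum :
    ∑ χ ∈ Finset.univ.filter (· ∈ B), diagSum k bs n e z p χ =
      ((primitiveRoots (p ^ k) ℂ).card : ℝ) * ((p : ℝ) ^ d * l) := by
  simp only [diagSum]
  rw [Finset.sum_comm, Finset.sum_congr rfl fun μ hμ => by
    rw [← Complex.re_sum, htab.tr μ hμ, Complex.natCast_re], Finset.sum_const, nsmul_eq_mul]
  push_cast
  rfl

theorem diag_ne_zero {χ : Cfsg.IrrCharacter G} (hχ : χ ∈ B) :
    aeval ζ (pairPoly bs n e z (p ^ k) χ χ) ≠ 0 := by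
  intro he
  obtain ⟨χ₀, h₀, h₀0⟩ := exists_height_zero hM hB
  have hζm : ζ ∈ primitiveRoots (p ^ k) ℂ := (mem_primitiveRoots (pow_pos hM.1.pos k)).2 hζ
  have h := (diag_eq hM hB hζ htab hζm χ).2.2.2
  rw [he, Complex.zero_re, mul_zero] at h
  have h2 := (Finset.sum_eq_zero_iff_of_nonneg fun _ _ => sq_nonneg _).1 h χ₀
    (Finset.mem_filter.2 ⟨Finset.mem_univ _, h₀⟩)
  exact (ne_zero_of_height_zero hM hB hζ htab hχ h₀ h₀0).1 (by simpa using h2)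

theorem pow_height_mul_card_le_diagSum {χ : Cfsg.IrrCharacter G} (hχ : χ ∈ B) :
    ((p : ℝ) ^ Cfsg.blockHeight p B (χ : G → ℂ)) * ((primitiveRoots (p ^ k) ℂ).card : ℝ) ≤
      diagSum k bs n e z p χ := by
  obtain ⟨Q, hQ, -⟩ := exists_quot hM hB hζ htab hχ hχ
  have hne : aeval ζ Q ≠ 0 := fun h => diag_ne_zero hM hB hζ htab hχ (by rw [hQ ζ hζ, h, mul_zero])
  refine le_of_le_of_eq (mul_le_mul_of_nonneg_left
    (card_le_sum_norm_sq (pow_pos hM.1.pos k) hζ Q hne).2 (by positivity)) ?_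
  rw [Finset.mul_sum, diagSum]
  refine Finset.sum_congr rfl fun μ hμ => ?_
  rw [← (diag_eq hM hB hζ htab hμ χ).2.2.1, hQ μ ((mem_primitiveRoots (pow_pos hM.1.pos k)).1 hμ),
    norm_mul, norm_pow, Complex.norm_natCast]

theorem card_mul_le_sum_off {χ ψ : Cfsg.IrrCharacter G} (hχ : χ ∈ B) (hψ : ψ ∈ B)
    (h0 : Cfsg.blockHeight p B (χ : G → ℂ) = 0) :
    ((primitiveRoots (p ^ k) ℂ).card : ℝ) * ((p : ℝ) ^ Cfsg.blockHeight p B (ψ : G → ℂ)) ^ 2 ≤
      ∑ μ ∈ primitiveRoots (p ^ k) ℂ, ‖aeval μ (pairPoly bs n e z (p ^ k) χ ψ)‖ ^ 2 := by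
  obtain ⟨Q, hQ, hI⟩ := exists_quot hM hB hζ htab hψ hχ
  have hne : aeval ζ Q ≠ 0 := fun h => hI.1 (by rw [h]; exact ideal_zero hM) h0
  rw [mul_comm]
  refine le_of_le_of_eq (mul_le_mul_of_nonneg_left
    (card_le_sum_norm_sq (pow_pos hM.1.pos k) hζ Q hne).1 (by positivity)) ?_
  rw [Finset.mul_sum]
  refine Finset.sum_congr rfl fun μ hμ => ?_
  have hμ' := (mem_primitiveRoots (pow_pos hM.1.pos k)).1 hμ
  rw [← pairPoly_conj bs n e z (pow_ne_zero _ hM.1.ne_zero) htab.sym ψ χ hμ'.pow_eq_one,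
    Complex.norm_conj, hQ μ hμ', norm_mul, norm_pow, Complex.norm_natCast, mul_pow]

/-- Every diagonal is at most `p ^ d` and the row leaves room for the off-diagonal terms. -/
theorem row_bound (χ : Cfsg.IrrCharacter G) (hχ : χ ∈ B)
    (X : Finset (Cfsg.IrrCharacter G)) (hX : ∀ ψ ∈ X, ψ ∈ B ∧ ψ ≠ χ)
    (hne : ∀ ψ ∈ X, aeval ζ (pairPoly bs n e z (p ^ k) χ ψ) ≠ 0) (R : ℝ)
    (hR : diagSum k bs n e z p χ = ((primitiveRoots (p ^ k) ℂ).card : ℝ) * R) :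
    (X.card : ℝ) + R ^ 2 ≤ (p : ℝ) ^ d * R := by
  classical
  have hT : (0 : ℝ) < ((primitiveRoots (p ^ k) ℂ).card : ℝ) := Nat.cast_pos.2
    (Finset.card_pos.2 ⟨ζ, (mem_primitiveRoots (pow_pos hM.1.pos k)).2 hζ⟩)
  have hdiag : ((primitiveRoots (p ^ k) ℂ).card : ℝ) * R ^ 2 ≤
      ∑ μ ∈ primitiveRoots (p ^ k) ℂ, ‖aeval μ (pairPoly bs n e z (p ^ k) χ χ)‖ ^ 2 := by
    have h1 : ∀ μ ∈ primitiveRoots (p ^ k) ℂ,
        2 * R * (aeval μ (pairPoly bs n e z (p ^ k) χ χ)).re - R ^ 2 ≤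
          ‖aeval μ (pairPoly bs n e z (p ^ k) χ χ)‖ ^ 2 := fun μ hμ => by
      rw [(diag_eq hM hB hζ htab hμ χ).2.2.1]
      nlinarith [sq_nonneg ((aeval μ (pairPoly bs n e z (p ^ k) χ χ)).re - R)]
    refine le_trans (le_of_eq ?_) (Finset.sum_le_sum h1)
    rw [Finset.sum_sub_distrib, ← Finset.mul_sum, Finset.sum_const, nsmul_eq_mul]
    rw [show ∑ i ∈ primitiveRoots (p ^ k) ℂ, (aeval i (pairPoly bs n e z (p ^ k) χ χ)).re =
      diagSum k bs n e z p χ from rfl, hR]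
    ring
  have hoff : (X.card : ℝ) * ((primitiveRoots (p ^ k) ℂ).card : ℝ) ≤ ∑ ψ ∈ X,
      ∑ μ ∈ primitiveRoots (p ^ k) ℂ, ‖aeval μ (pairPoly bs n e z (p ^ k) χ ψ)‖ ^ 2 := by
    rw [← nsmul_eq_mul]
    exact Finset.card_nsmul_le_sum X _ _ fun ψ hψ =>
      (card_le_sum_norm_sq (pow_pos hM.1.pos k) hζ _ (hne ψ hψ)).1
  have hsub : insert χ X ⊆ Finset.univ.filter (· ∈ B) := by
    intro ψ hψ
    rw [Finset.mem_filter]
    rcases Finset.mem_insert.1 hψ with rfl | hψ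
    · exact ⟨Finset.mem_univ _, hχ⟩
    · exact ⟨Finset.mem_univ _, (hX ψ hψ).1⟩
  have h3 : ∑ ψ ∈ insert χ X,
      ∑ μ ∈ primitiveRoots (p ^ k) ℂ, ‖aeval μ (pairPoly bs n e z (p ^ k) χ ψ)‖ ^ 2 ≤
        (p : ℝ) ^ d * diagSum k bs n e z p χ :=
    (Finset.sum_le_sum_of_subset_of_nonneg hsub fun ψ _ _ =>
      Finset.sum_nonneg fun μ _ => sq_nonneg _).trans_eq (sum_row hM hB hζ htab χ)
  rw [Finset.sum_insert fun h => (hX χ h).2 rfl, hR] at h3
  nlinarith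

/-- Rows all at least `2`, or one column. -/
theorem card_le_of_rank_le_two (hl : l ≤ 2) : (Finset.univ.filter (· ∈ B)).card ≤ p ^ d := by
  classical
  set Bs := Finset.univ.filter (· ∈ B) with hBs
  set T := primitiveRoots (p ^ k) ℂ with hT
  have hn := pow_pos hM.1.pos k
  have hTpos : (0 : ℝ) < (T.card : ℝ) :=
    Nat.cast_pos.2 (Finset.card_pos.2 ⟨ζ, (mem_primitiveRoots hn).2 hζ⟩)
  have hmem : ∀ {χ}, χ ∈ Bs → χ ∈ B := fun h => (Finset.mem_filter.1 h).2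
  -- a uniform lower bound for the diagonal finishes the count
  have finish : ∀ c : ℕ, l ≤ c → 0 < c → (∀ χ ∈ Bs, (c : ℝ) * T.card ≤ diagSum k bs n e z p χ) →
      Bs.card ≤ p ^ d := by
    intro c hlc hc h
    have h1 := Finset.card_nsmul_le_sum Bs _ _ h
    rw [sum_diagSum hM hB hζ htab, nsmul_eq_mul, ← hT] at h1
    have h2 : (Bs.card : ℝ) * c ≤ ((p ^ d : ℕ) : ℝ) * c := by
      have h3 : (Bs.card : ℝ) * c ≤ (p : ℝ) ^ d * l := le_of_mul_le_mul_right (by linarith) hTpos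
      refine h3.trans ?_
      push_cast
      exact mul_le_mul_of_nonneg_left (Nat.cast_le.2 hlc) (by positivity)
    exact_mod_cast le_of_mul_le_mul_right h2 (Nat.cast_pos.2 hc)
  have hone : ∀ χ ∈ Bs, (T.card : ℝ) ≤ diagSum k bs n e z p χ := fun χ hχ => by
    refine le_trans ?_ (pow_height_mul_card_le_diagSum hM hB hζ htab (hmem hχ))
    exact le_mul_of_one_le_left hTpos.le (one_le_pow₀ (Nat.one_le_cast.2 hM.1.one_le))
  rcases Nat.lt_or_ge l 2 with hl1 | hl2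
  · exact finish 1 (by omega) one_pos fun χ hχ => by simpa using hone χ hχ
  obtain rfl : l = 2 := le_antisymm hl hl2
  obtain ⟨a, c, b, u, v, ha, hb, hca, hcb, hz⟩ := exists_binary bs z ((p : ℤ) ^ d)
    (pow_pos (Int.natCast_pos.2 hM.1.pos) d) htab.sym htab.sq htab.trace
  set x : (κ → ℤ) → Cfsg.IrrCharacter G → ℤ[X] := fun w χ =>
    ∑ η ∈ bs, C ((n χ η : ℤ) * w η) * Polynomial.X ^ e η with hx
  have hxv : ∀ (μ : ℂ) w χ, aeval μ (x w χ) = ∑ η ∈ bs, (n χ η : ℂ) * (w η : ℂ) * μ ^ e η := by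
    intro μ w χ
    simp [x, map_sum]
  have hP : ∀ μ : ℂ, μ ^ (p ^ k) = 1 → ∀ χ ψ,
      aeval μ (pairPoly bs n e z (p ^ k) χ ψ) =
        (a : ℂ) * (aeval μ (x u χ) * conj (aeval μ (x u ψ))) +
        (c : ℂ) * (aeval μ (x u χ) * conj (aeval μ (x v ψ)) +
          aeval μ (x v χ) * conj (aeval μ (x u ψ))) +
        (b : ℂ) * (aeval μ (x v χ) * conj (aeval μ (x v ψ))) := by
    intro μ hμ χ ψ
    have hpow : ∀ i : ℕ, conj μ ^ i = μ ^ ((p ^ k - 1) * i) := fun i => by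
      have h := conj_pow_pair (pow_ne_zero k hM.1.ne_zero) hμ i 0
      rw [mul_zero, add_zero, zero_add, map_pow] at h
      exact h
    simp only [pairPoly_aeval, hxv, map_sum, map_mul, Complex.conj_natCast, map_intCast, map_pow,
      hpow, Finset.sum_mul, Finset.mul_sum, ← Finset.sum_add_distrib]
    rw [Finset.sum_comm]
    refine Finset.sum_congr rfl fun η hη => Finset.sum_congr rfl fun η' hη' => ?_
    rw [hz η' hη' η hη, pow_add]
    push_cast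
    ring
  have hdiag : ∀ μ ∈ T, ∀ χ,
      ((a : ℝ) - |(c : ℝ)|) * ‖aeval μ (x u χ)‖ ^ 2 + ((b : ℝ) - |(c : ℝ)|) * ‖aeval μ (x v χ)‖ ^ 2 ≤
        (aeval μ (pairPoly bs n e z (p ^ k) χ χ)).re := by
    intro μ hμ χ
    rw [hP μ ((mem_primitiveRoots hn).1 hμ).pow_eq_one]
    set U := aeval μ (x u χ)
    set V := aeval μ (x v χ)
    simp only [Complex.add_re, Complex.mul_re, Complex.add_im, Complex.mul_im, Complex.intCast_re,
      Complex.intCast_im, Complex.conj_re, Complex.conj_im, Complex.sq_norm, Complex.normSq_apply]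
    rcases abs_cases (c : ℝ) with ⟨e1, e2⟩ | ⟨e1, e2⟩ <;> rw [e1] <;>
      nlinarith [sq_nonneg (U.re + V.re), sq_nonneg (U.im + V.im), sq_nonneg (U.re - V.re),
        sq_nonneg (U.im - V.im)]
  have hxne : ∀ χ ∈ Bs, aeval ζ (x u χ) ≠ 0 ∨ aeval ζ (x v χ) ≠ 0 := fun χ hχ => by
    by_contra h
    push Not at h
    refine diag_ne_zero hM hB hζ htab (hmem hχ) ?_
    rw [hP ζ hζ.pow_eq_one, h.1, h.2]
    simp
  have hlow : ∀ (w : κ → ℤ) χ, aeval ζ (x w χ) ≠ 0 →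
      (T.card : ℝ) ≤ ∑ μ ∈ T, ‖aeval μ (x w χ)‖ ^ 2 := fun w χ h =>
    (card_le_sum_norm_sq hn hζ _ h).1
  have hzero : ∀ (w : κ → ℤ) χ, aeval ζ (x w χ) = 0 → ∀ μ ∈ T, aeval μ (x w χ) = 0 := by
    intro w χ h μ hμ
    have hev : ∀ ν : ℂ, aeval ν ((x w χ).map (Int.castRingHom ℚ)) = aeval ν (x w χ) := fun ν => by
      simp only [← algebraMap_int_eq, aeval_map_algebraMap]
    have := aeval_eq_rat_of_primitive hn hζ ((mem_primitiveRoots hn).1 hμ)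
      ((x w χ).map (Int.castRingHom ℚ)) (q := 0) (by rw [hev, h, Rat.cast_zero])
    rwa [hev, Rat.cast_zero] at this
  have hsumge : ∀ χ, ((a : ℝ) - |(c : ℝ)|) * ∑ μ ∈ T, ‖aeval μ (x u χ)‖ ^ 2 +
      ((b : ℝ) - |(c : ℝ)|) * ∑ μ ∈ T, ‖aeval μ (x v χ)‖ ^ 2 ≤ diagSum k bs n e z p χ := by
    intro χ
    rw [Finset.mul_sum, Finset.mul_sum, ← Finset.sum_add_distrib, diagSum]
    exact Finset.sum_le_sum fun μ hμ => hdiag μ hμ χ
  have hcaR : 2 * |(c : ℝ)| ≤ a := by exact_mod_cast hca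
  have hcbR : 2 * |(c : ℝ)| ≤ b := by exact_mod_cast hcb
  have hnn : ∀ (w : κ → ℤ) χ, 0 ≤ ∑ μ ∈ T, ‖aeval μ (x w χ)‖ ^ 2 := fun w χ =>
    Finset.sum_nonneg fun _ _ => sq_nonneg _
  have hboth : ∀ χ ∈ Bs, aeval ζ (x u χ) ≠ 0 → aeval ζ (x v χ) ≠ 0 →
      ((a : ℝ) + b - 2 * |(c : ℝ)|) * T.card ≤ diagSum k bs n e z p χ := by
    intro χ _ hu hv
    refine le_trans ?_ (hsumge χ)
    have := hlow u χ hu
    have := hlow v χ hv
    nlinarith [abs_nonneg (c : ℝ)]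
  by_cases hc0 : c = 0
  · subst hc0
    -- a character of height zero in one column only
    have hcol : ∀ (a : ℤ) (u : κ → ℤ), 0 < a → ∀ χ ∈ Bs, Cfsg.blockHeight p B (χ : G → ℂ) = 0 →
        (∀ μ ∈ T, ∀ ψ, aeval μ (pairPoly bs n e z (p ^ k) χ ψ) =
          (a : ℂ) * (aeval μ (x u χ) * conj (aeval μ (x u ψ)))) → Bs.card ≤ p ^ d := by
      intro a u ha χ hχ h0 hPχ
      have hζT : ζ ∈ T := (mem_primitiveRoots hn).2 hζ
      have hne : ∀ ψ ∈ Bs, aeval ζ (x u ψ) ≠ 0 := fun ψ hψ h =>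
        (ne_zero_of_height_zero hM hB hζ htab (hmem hψ) (hmem hχ) h0).2 (by
          rw [hPχ ζ hζT, h, map_zero, mul_zero, mul_zero])
      have hcolsum : ∀ μ ∈ T, ∑ ψ ∈ Bs, ‖aeval μ (x u ψ)‖ ^ 2 ≤ (p : ℝ) ^ d := by
        intro μ hμ
        have hr := (diag_eq hM hB hζ htab hμ χ).2.2.2
        have hnorm : ∀ ψ, ‖aeval μ (pairPoly bs n e z (p ^ k) χ ψ)‖ ^ 2 =
            ((a : ℝ) ^ 2 * ‖aeval μ (x u χ)‖ ^ 2) * ‖aeval μ (x u ψ)‖ ^ 2 := fun ψ => by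
          rw [hPχ μ hμ, norm_mul, norm_mul, Complex.norm_conj, Complex.norm_intCast, mul_pow,
            mul_pow, sq_abs]
          ring
        have hre : (aeval μ (pairPoly bs n e z (p ^ k) χ χ)).re =
            (a : ℝ) * (‖aeval μ (x u χ)‖ * ‖aeval μ (x u χ)‖) := by
          rw [← (diag_eq hM hB hζ htab hμ χ).2.2.1, hPχ μ hμ, norm_mul, norm_mul,
            Complex.norm_conj, Complex.norm_intCast, abs_of_pos (Int.cast_pos.2 ha)]
        rw [hre, ← hBs, Finset.sum_congr rfl fun ψ _ => hnorm ψ, ← Finset.mul_sum] at hr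
        have hpos : 0 < ‖aeval μ (x u χ)‖ := norm_pos_iff.2 fun h => hne χ hχ (by
          have hev : ∀ ν : ℂ, aeval ν ((x u χ).map (Int.castRingHom ℚ)) = aeval ν (x u χ) :=
            fun ν => by simp only [← algebraMap_int_eq, aeval_map_algebraMap]
          have := aeval_eq_rat_of_primitive hn ((mem_primitiveRoots hn).1 hμ) hζ
            ((x u χ).map (Int.castRingHom ℚ)) (q := 0) (by rw [hev, h, Rat.cast_zero])
          rwa [hev, Rat.cast_zero] at this)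
        have ha1 : (1 : ℝ) ≤ a := by exact_mod_cast ha
        have hpa : 0 < (a : ℝ) * ‖aeval μ (x u χ)‖ ^ 2 := by positivity
        have h2 : (a : ℝ) * ∑ ψ ∈ Bs, ‖aeval μ (x u ψ)‖ ^ 2 = (p : ℝ) ^ d := by
          refine mul_left_cancel₀ hpa.ne' ?_
          linear_combination hr
        have h3 : 0 ≤ ∑ ψ ∈ Bs, ‖aeval μ (x u ψ)‖ ^ 2 := Finset.sum_nonneg fun _ _ => sq_nonneg _
        nlinarith
      have h1 := Finset.card_nsmul_le_sum Bs _ _ fun ψ hψ => hlow u ψ (hne ψ hψ)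
      rw [Finset.sum_comm] at h1
      have h2 := h1.trans (Finset.sum_le_sum hcolsum)
      rw [Finset.sum_const, nsmul_eq_mul, nsmul_eq_mul, mul_comm] at h2
      exact_mod_cast le_of_mul_le_mul_left h2 hTpos
    by_cases hv : ∃ χ ∈ Bs, Cfsg.blockHeight p B (χ : G → ℂ) = 0 ∧ aeval ζ (x v χ) = 0
    · obtain ⟨χ, hχ, h0, hv0⟩ := hv
      refine hcol a u ha χ hχ h0 fun μ hμ ψ => ?_
      rw [hP μ ((mem_primitiveRoots hn).1 hμ).pow_eq_one, hzero v χ hv0 μ hμ]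
      simp
    by_cases hu : ∃ χ ∈ Bs, Cfsg.blockHeight p B (χ : G → ℂ) = 0 ∧ aeval ζ (x u χ) = 0
    · obtain ⟨χ, hχ, h0, hu0⟩ := hu
      refine hcol b v hb χ hχ h0 fun μ hμ ψ => ?_
      rw [hP μ ((mem_primitiveRoots hn).1 hμ).pow_eq_one, hzero u χ hu0 μ hμ]
      simp
    push Not at hu hv
    refine finish 2 le_rfl two_pos fun χ hχ => ?_
    rcases Nat.eq_zero_or_pos (Cfsg.blockHeight p B (χ : G → ℂ)) with h0 | h0
    · refine le_trans ?_ (hboth χ hχ (hu χ hχ h0) (hv χ hχ h0))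
      have ha1 : (1 : ℝ) ≤ a := by exact_mod_cast ha
      have hb1 : (1 : ℝ) ≤ b := by exact_mod_cast hb
      push_cast
      simp only [abs_zero]
      nlinarith
    · refine le_trans ?_ (pow_height_mul_card_le_diagSum hM hB hζ htab (hmem hχ))
      refine mul_le_mul_of_nonneg_right ?_ hTpos.le
      push_cast
      calc (2 : ℝ) ≤ p := by exact_mod_cast hM.1.two_le
        _ ≤ _ := le_self_pow₀ (by exact_mod_cast hM.1.one_le) h0.ne'
  · refine finish 2 le_rfl two_pos fun χ hχ => ?_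
    have hc1 : (1 : ℝ) ≤ |(c : ℝ)| := by exact_mod_cast Int.one_le_abs hc0
    push_cast
    by_cases hu : aeval ζ (x u χ) = 0
    · have hv := (hxne χ hχ).resolve_left fun h => h hu
      have hge : (b : ℝ) * ∑ μ ∈ T, ‖aeval μ (x v χ)‖ ^ 2 = diagSum k bs n e z p χ := by
        rw [Finset.mul_sum, diagSum]
        refine Finset.sum_congr rfl fun μ hμ => ?_
        rw [hP μ ((mem_primitiveRoots hn).1 hμ).pow_eq_one, hzero u χ hu μ hμ]
        simp [Complex.mul_re, Complex.sq_norm, Complex.normSq_apply]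
      have := hlow v χ hv
      nlinarith
    by_cases hv : aeval ζ (x v χ) = 0
    · have hge : (a : ℝ) * ∑ μ ∈ T, ‖aeval μ (x u χ)‖ ^ 2 = diagSum k bs n e z p χ := by
        rw [Finset.mul_sum, diagSum]
        refine Finset.sum_congr rfl fun μ hμ => ?_
        rw [hP μ ((mem_primitiveRoots hn).1 hμ).pow_eq_one, hzero v χ hv μ hμ]
        simp [Complex.mul_re, Complex.sq_norm, Complex.normSq_apply]
      have := hlow u χ hu
      nlinarith
    refine le_trans ?_ (hboth χ hχ hu hv)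
    nlinarith

omit hB in
/-- At `p = 2` the averaged diagonal is an integer, odd exactly at height zero after division. -/
theorem exists_avg_diag (hp : p = 2) (hB : Cfsg.IsPBlock M B) {χ : Cfsg.IrrCharacter G} (hχ : χ ∈ B) :
    ∃ r : ℤ, 1 ≤ r ∧
      diagSum k bs n e z p χ =
        ((primitiveRoots (p ^ k) ℂ).card : ℝ) * ((2 : ℝ) ^ Cfsg.blockHeight p B (χ : G → ℂ) * r) ∧
      ((2 : ℤ) ∣ r ↔ Cfsg.blockHeight p B (χ : G → ℂ) ≠ 0) := by
  subst hp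
  obtain ⟨Q, hQ, hI⟩ := exists_quot hM hB hζ htab hχ hχ
  have hreal : conj (aeval ζ Q) = aeval ζ Q := by
    have h := pairPoly_conj bs n e z (pow_ne_zero _ hM.1.ne_zero) htab.sym χ χ hζ.pow_eq_one
    rw [hQ ζ hζ, map_mul, map_pow, Complex.conj_natCast] at h
    exact mul_left_cancel₀ (pow_ne_zero _ (by norm_num)) h
  obtain ⟨r, hr, hpar⟩ := exists_avg_two hM hζ Q hreal
  have hsum : diagSum k bs n e z 2 χ = ((primitiveRoots (2 ^ k) ℂ).card : ℝ) *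
      ((2 : ℝ) ^ Cfsg.blockHeight 2 B (χ : G → ℂ) * r) := by
    rw [diagSum, ← Complex.re_sum, Finset.sum_congr rfl fun μ hμ =>
      hQ μ ((mem_primitiveRoots (pow_pos hM.1.pos k)).1 hμ), ← Finset.mul_sum, hr]
    rw [show ((2 : ℕ) : ℂ) ^ Cfsg.blockHeight 2 B (χ : G → ℂ) *
      (((primitiveRoots (2 ^ k) ℂ).card : ℂ) * (r : ℂ)) = ((((primitiveRoots (2 ^ k) ℂ).card : ℝ) *
        ((2 : ℝ) ^ Cfsg.blockHeight 2 B (χ : G → ℂ) * r) : ℝ) : ℂ) by push_cast; ring,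
      Complex.ofReal_re]
  refine ⟨r, ?_, hsum, hpar.symm.trans hI⟩
  have h1 := pow_height_mul_card_le_diagSum hM hB hζ htab hχ
  rw [hsum, mul_comm] at h1
  have hTpos : (0 : ℝ) < ((primitiveRoots (2 ^ k) ℂ).card : ℝ) := Nat.cast_pos.2
    (Finset.card_pos.2 ⟨ζ, (mem_primitiveRoots (pow_pos hM.1.pos k)).2 hζ⟩)
  have h2 := le_of_mul_le_mul_left h1 hTpos
  have h3 : (1 : ℝ) ≤ r := by
    refine le_of_mul_le_mul_left (a := (2 : ℝ) ^ Cfsg.blockHeight 2 B (χ : G → ℂ)) ?_ (by positivity)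
    simpa using h2
  exact_mod_cast h3

/-- The weighted count at rank at most three. -/
theorem weight_le_of_rank_le_three (hp : p = 2) (hl : l ≤ 3) :
    ∑ χ ∈ Finset.univ.filter (· ∈ B), (if Cfsg.blockHeight p B (χ : G → ℂ) = 0 then 3
      else 2 * 2 ^ Cfsg.blockHeight p B (χ : G → ℂ)) ≤ 3 * 2 ^ d := by
  classical
  subst hp
  set Bs := Finset.univ.filter (· ∈ B) with hBs
  set T := primitiveRoots (2 ^ k) ℂ with hT
  set h : Cfsg.IrrCharacter G → ℕ := fun χ => Cfsg.blockHeight 2 B (χ : G → ℂ) with hh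
  set f : Cfsg.IrrCharacter G → ℕ := fun χ => if h χ = 0 then 3 else 2 * 2 ^ h χ with hf
  have hn : 0 < 2 ^ k := pow_pos two_pos k
  have hTpos : (0 : ℝ) < (T.card : ℝ) :=
    Nat.cast_pos.2 (Finset.card_pos.2 ⟨ζ, (mem_primitiveRoots hn).2 hζ⟩)
  have hmem : ∀ {χ}, χ ∈ Bs → χ ∈ B := fun hχ => (Finset.mem_filter.1 hχ).2
  have hr := fun χ (hχ : χ ∈ Bs) => exists_avg_diag hM hζ htab rfl hB (hmem hχ)
  choose r hr1 hrs hrp using hr
  suffices ((∑ χ ∈ Bs, f χ : ℕ) : ℝ) ≤ ((3 * 2 ^ d : ℕ) : ℝ) from Nat.cast_le.1 this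
  by_cases hone : ∃ χ, ∃ hχ : χ ∈ Bs, h χ = 0 ∧ r χ hχ = 1
  · obtain ⟨χ, hχ, h0, hr0⟩ := hone
    have h1 := Finset.sum_le_sum fun ψ hψ =>
      card_mul_le_sum_off hM hB hζ htab (hmem hχ) (hmem (χ := ψ) hψ) h0
    rw [sum_row hM hB hζ htab χ, hrs χ hχ, hr0, show Cfsg.blockHeight 2 B (χ : G → ℂ) = 0 from h0,
      ← Finset.mul_sum, ← hT] at h1
    simp only [pow_zero, Int.cast_one, mul_one, Nat.cast_ofNat, h, mul_comm ((2 : ℝ) ^ d)] at h1
    have h2 : ∑ ψ ∈ Bs, (((2 : ℝ)) ^ h ψ) ^ 2 ≤ (2 : ℝ) ^ d := le_of_mul_le_mul_left h1 hTpos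
    push_cast
    refine le_trans ?_ (mul_le_mul_of_nonneg_left h2 (by norm_num : (0 : ℝ) ≤ 3))
    rw [Finset.mul_sum]
    refine Finset.sum_le_sum fun ψ _ => ?_
    simp only [f]
    rcases Nat.eq_zero_or_pos (h ψ) with e0 | e0
    · simp [e0]
    · rw [if_neg e0.ne']
      have : (1 : ℝ) ≤ 2 ^ h ψ := one_le_pow₀ (by norm_num)
      push_cast
      nlinarith
  · push Not at hone
    have h1 : ∀ χ ∈ Bs, (T.card : ℝ) * (f χ : ℝ) ≤ diagSum k bs n e z 2 χ := fun χ hχ => by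
      rw [hrs χ hχ]
      refine mul_le_mul_of_nonneg_left ?_ hTpos.le
      have hlow := hr1 χ hχ
      simp only [f]
      rcases Nat.eq_zero_or_pos (h χ) with e0 | e0
      · rw [if_pos e0]
        have hodd : ¬ (2 : ℤ) ∣ r χ hχ := fun hd' => (hrp χ hχ).1 hd' e0
        have := hone χ hχ e0
        have h3 : (3 : ℤ) ≤ r χ hχ := by omega
        simp only [h] at e0
        rw [e0, pow_zero, one_mul]
        exact_mod_cast h3
      · rw [if_neg e0.ne']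
        have heven : (2 : ℤ) ∣ r χ hχ := (hrp χ hχ).2 e0.ne'
        have h3 : (2 : ℤ) ≤ r χ hχ := by omega
        push_cast
        rw [mul_comm (2 : ℝ)]
        exact mul_le_mul_of_nonneg_left (by exact_mod_cast h3) (by positivity)
    have h2 := Finset.sum_le_sum h1
    rw [sum_diagSum hM hB hζ htab, ← Finset.mul_sum, ← hT] at h2
    have h3 := le_of_mul_le_mul_left h2 hTpos
    push_cast at h3 ⊢
    refine h3.trans ?_
    have : (l : ℝ) ≤ 3 := by exact_mod_cast hl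
    nlinarith [pow_pos (two_pos : (0 : ℝ) < 2) d]

/-- Few characters beyond the rank. -/
theorem card_le_of_le_rank_add_three (hp : p = 2) (hk : (Finset.univ.filter (· ∈ B)).card ≤ l + 3) :
    (Finset.univ.filter (· ∈ B)).card ≤ 2 ^ d := by
  classical
  subst hp
  set Bs := Finset.univ.filter (· ∈ B) with hBs
  set T := primitiveRoots (2 ^ k) ℂ with hT
  set h : Cfsg.IrrCharacter G → ℕ := fun χ => Cfsg.blockHeight 2 B (χ : G → ℂ) with hh
  have hn : 0 < 2 ^ k := pow_pos two_pos k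
  have hTpos : (0 : ℝ) < (T.card : ℝ) :=
    Nat.cast_pos.2 (Finset.card_pos.2 ⟨ζ, (mem_primitiveRoots hn).2 hζ⟩)
  have hmem : ∀ {χ}, χ ∈ Bs → χ ∈ B := fun hχ => (Finset.mem_filter.1 hχ).2
  by_contra hlt
  push Not at hlt
  have h2d : 1 ≤ 2 ^ d := Nat.one_le_two_pow
  have hr := fun χ (hχ : χ ∈ Bs) => exists_avg_diag hM hζ htab rfl hB (hmem hχ)
  choose r hr1 hrs hrp using hr
  obtain ⟨χ₀, hχ₀, hχ₀0⟩ := exists_height_zero hM hB
  -- the row of a character of height zero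
  have hrow0 : ∀ χ, ∀ hχ : χ ∈ Bs, h χ = 0 →
      ((Bs.card : ℤ) - 1) + r χ hχ ^ 2 ≤ (2 : ℤ) ^ d * r χ hχ := by
    intro χ hχ h0
    have h1 := row_bound hM hB hζ htab χ (hmem hχ) (Bs.erase χ)
      (fun ψ hψ => ⟨hmem (Finset.mem_of_mem_erase hψ), Finset.ne_of_mem_erase hψ⟩)
      (fun ψ hψ => (ne_zero_of_height_zero hM hB hζ htab (hmem (Finset.mem_of_mem_erase hψ))
        (hmem hχ) h0).2) (r χ hχ) (by
          rw [hrs χ hχ, show Cfsg.blockHeight 2 B (χ : G → ℂ) = 0 from h0, pow_zero, one_mul])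
    rw [Finset.card_erase_of_mem hχ, Nat.cast_sub (Finset.card_pos.2 ⟨χ, hχ⟩)] at h1
    push_cast at h1
    exact_mod_cast h1
  have hrow1 : ∀ χ, ∀ hχ : χ ∈ Bs, h χ ≠ 0 →
      1 + (2 ^ h χ * r χ hχ) ^ 2 ≤ (2 : ℤ) ^ d * (2 ^ h χ * r χ hχ) := by
    intro χ hχ h0
    have h1 := row_bound hM hB hζ htab χ (hmem hχ) {χ₀}
      (fun ψ hψ => by
        rw [Finset.mem_singleton] at hψ
        subst hψ
        exact ⟨hχ₀, fun e => h0 (e ▸ hχ₀0)⟩)
      (fun ψ hψ => by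
        rw [Finset.mem_singleton] at hψ
        subst hψ
        exact (ne_zero_of_height_zero hM hB hζ htab (hmem hχ) hχ₀ hχ₀0).1)
      (((2 : ℤ) ^ h χ * r χ hχ : ℤ) : ℝ) (by rw [hrs χ hχ]; push_cast; rfl)
    rw [Finset.card_singleton] at h1
    push_cast at h1
    exact_mod_cast h1
  have hub : ∀ χ, ∀ hχ : χ ∈ Bs, (2 : ℤ) ^ h χ * r χ hχ ≤ 2 ^ d - 3 := by
    intro χ hχ
    have hkd : (2 : ℤ) ^ d + 1 ≤ (Bs.card : ℤ) := by exact_mod_cast hlt
    have hpos := hr1 χ hχ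
    rcases Nat.eq_zero_or_pos (h χ) with e0 | e0
    · rw [e0, pow_zero, one_mul]
      have hodd : ¬ (2 : ℤ) ∣ r χ hχ := fun hd' => (hrp χ hχ).1 hd' e0
      have h1 := hrow0 χ hχ e0
      have hlt' : r χ hχ < 2 ^ d := by nlinarith
      have hne1 : r χ hχ ≠ 2 ^ d - 1 := fun e => by
        rw [e] at h1
        nlinarith
      rcases d with _ | d
      · simp only [pow_zero] at hlt'; omega
      · have : (2 : ℤ) ∣ 2 ^ (d + 1) := dvd_pow_self 2 (by omega)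
        omega
    · set R := (2 : ℤ) ^ h χ * r χ hχ with hR
      have h4 : (4 : ℤ) ∣ R := by
        obtain ⟨j, hj⟩ : ∃ j, h χ = j + 1 := ⟨h χ - 1, by omega⟩
        obtain ⟨w, hw⟩ := (hrp χ hχ).2 e0.ne'
        exact ⟨2 ^ j * w, by rw [hR, hj, hw, pow_succ]; ring⟩
      have hRpos : 0 < R := mul_pos (pow_pos two_pos _) (by omega)
      have h1 := hrow1 χ hχ e0.ne'
      rw [← hR] at h1
      have hlt' : R < 2 ^ d := by nlinarith
      have hd2 : 2 ≤ d := by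
        by_contra hd
        have : (2 : ℤ) ^ d ≤ 2 := by
          calc (2 : ℤ) ^ d ≤ 2 ^ 1 := pow_le_pow_right₀ (by norm_num) (by omega)
            _ = 2 := pow_one 2
        omega
      have : (4 : ℤ) ∣ 2 ^ d := by
        obtain ⟨j, rfl⟩ := Nat.exists_eq_add_of_le hd2
        exact ⟨2 ^ j, by rw [pow_add]; norm_num⟩
      omega
  have h1 : ∀ χ ∈ Bs, diagSum k bs n e z 2 χ ≤ (T.card : ℝ) * ((2 : ℝ) ^ d - 3) := fun χ hχ => by
    rw [hrs χ hχ]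
    refine mul_le_mul_of_nonneg_left ?_ hTpos.le
    have := hub χ hχ
    exact_mod_cast this
  have h2 := Finset.sum_le_card_nsmul Bs _ _ h1
  rw [sum_diagSum hM hB hζ htab, nsmul_eq_mul, ← hT, mul_left_comm (Bs.card : ℝ)] at h2
  have h3 := le_of_mul_le_mul_left h2 hTpos
  have h4 : ((2 : ℤ) ^ d) * (l : ℤ) ≤ (Bs.card : ℤ) * (2 ^ d - 3) := by
    push_cast at h3
    exact_mod_cast h3
  have h5 : (Bs.card : ℤ) ≤ (l : ℤ) + 3 := by exact_mod_cast hk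
  have h6 : (2 : ℤ) ^ d + 1 ≤ (Bs.card : ℤ) := by exact_mod_cast hlt
  nlinarith

end Cfsg.Agent.CharTheory.MajorContrib
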