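import Mathlib

/-!
# Gram determinants of integral matrices

A Gram determinant of an integral matrix without zero rows is at least the number of rows beyond
the rank, plus one; the determinant of a form of rank one modulo `p` is divisible by a high power
of `p`.
-/

namespace Cfsg.Agent.CharTheory.MajorContrib

open Matrix

theorem det_gram_nonneg {κ n : Type*} [Fintype κ] [Fintype n] [DecidableEq n] (A : Matrix κ n ℤ) :
    0 ≤ (Aᵀ * A).det := by
  set B := A.map (Int.castRingHom ℝ) with hB
  have h : ((Aᵀ * A).det : ℝ) = (Bᵀ * B).det := by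
    rw [show ((Aᵀ * A).det : ℝ) = Int.castRingHom ℝ (Aᵀ * A).det from rfl, RingHom.map_det]
    congr 1
    ext i j
    simp [B, mul_apply]
  have h2 : 0 ≤ (Bᵀ * B).det := by
    rw [← conjTranspose_eq_transpose_of_trivial B]
    exact (posSemidef_conjTranspose_mul_self B).det_nonneg
  rw [← h] at h2
  exact_mod_cast h2

/-- Adding a nonzero row raises a nonzero Gram determinant. -/
theorem det_gram_add_row {κ n : Type*} [Fintype κ] [Fintype n] [DecidableEq n]
    (A : Matrix κ n ℤ) (w : n → ℤ) (hw : w ≠ 0) (hdet : (Aᵀ * A).det ≠ 0) :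
    (Aᵀ * A).det < (Aᵀ * A + replicateCol Unit w * replicateRow Unit w).det := by
  set B := A.map (Int.castRingHom ℝ) with hB
  set v : n → ℝ := fun i => (w i : ℝ) with hv
  have hG : (Aᵀ * A).map (Int.castRingHom ℝ) = Bᵀ * B := by
    ext i j
    simp [B, mul_apply]
  have hd : ((Aᵀ * A).det : ℝ) = (Bᵀ * B).det := by
    rw [show ((Aᵀ * A).det : ℝ) = Int.castRingHom ℝ (Aᵀ * A).det from rfl, RingHom.map_det]
    exact congrArg Matrix.det hG
  have hpos : 0 < (Bᵀ * B).det := by
    rw [← hd]
    exact_mod_cast lt_of_le_of_ne (det_gram_nonneg A) hdet.symm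
  have hu : IsUnit (Bᵀ * B).det := isUnit_iff_ne_zero.2 hpos.ne'
  set a := (Bᵀ * B)⁻¹ *ᵥ v with ha
  have hav : (Bᵀ * B) *ᵥ a = v := by
    rw [ha, mulVec_mulVec, mul_nonsing_inv _ hu, one_mulVec]
  have hq : 0 < v ⬝ᵥ a := by
    have h1 : v ⬝ᵥ a = (B *ᵥ a) ⬝ᵥ (B *ᵥ a) := by
      conv_lhs => rw [← hav]
      rw [← mulVec_mulVec, mulVec_transpose, ← dotProduct_mulVec]
    have h0 : 0 ≤ (B *ᵥ a) ⬝ᵥ (B *ᵥ a) := Finset.sum_nonneg fun i _ => mul_self_nonneg _
    rcases eq_or_lt_of_le h0 with h | h
    · refine absurd (funext fun i => ?_) hw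
      have h2 : B *ᵥ a = 0 := dotProduct_self_eq_zero.1 h.symm
      rw [← mulVec_mulVec, h2, mulVec_zero] at hav
      have := congrFun hav i
      simp only [Pi.zero_apply, v] at this
      exact_mod_cast this.symm
    · rwa [h1]
  have hsum : (((Aᵀ * A + replicateCol Unit w * replicateRow Unit w).det : ℤ) : ℝ) =
      (Bᵀ * B).det * (1 + v ⬝ᵥ a) := by
    rw [show (((Aᵀ * A + replicateCol Unit w * replicateRow Unit w).det : ℤ) : ℝ) =
      Int.castRingHom ℝ (Aᵀ * A + replicateCol Unit w * replicateRow Unit w).det from rfl,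
      RingHom.map_det]
    rw [show (Int.castRingHom ℝ).mapMatrix (Aᵀ * A + replicateCol Unit w * replicateRow Unit w) =
      Bᵀ * B + replicateCol Unit v * replicateRow Unit v from by
        rw [map_add, RingHom.mapMatrix_apply, hG]
        congr 1
        ext i j
        simp [v, mul_apply]]
    rw [det_add_replicateCol_mul_replicateRow hu]
    congr 1
    rw [det_unique]
    simp only [Matrix.add_apply, one_apply_eq, Matrix.mul_assoc, ha]
    simp [mul_apply, mulVec, dotProduct, replicateRow_apply, replicateCol_apply]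
  have : ((Aᵀ * A).det : ℝ) < ((Aᵀ * A + replicateCol Unit w * replicateRow Unit w).det : ℤ) := by
    rw [hsum, hd]
    nlinarith
  exact_mod_cast this

theorem gram_submatrix_insert {κ n : Type*} [DecidableEq κ] [Fintype n] (A : Matrix κ n ℤ)
    (s : Finset κ) {a : κ} (ha : a ∉ s) :
    (A.submatrix (fun i : (insert a s : Finset κ) => (i : κ)) id)ᵀ *
        A.submatrix (fun i : (insert a s : Finset κ) => (i : κ)) id =
      (A.submatrix (fun i : s => (i : κ)) id)ᵀ * A.submatrix (fun i : s => (i : κ)) id +
        replicateCol Unit (A a) * replicateRow Unit (A a) := by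
  ext i j
  simp only [Matrix.add_apply, mul_apply, transpose_apply, submatrix_apply, id_eq,
    replicateCol_apply, replicateRow_apply, Finset.univ_unique, Finset.sum_singleton]
  rw [Finset.sum_coe_sort (insert a s) fun t => A t i * A t j, Finset.sum_insert ha,
    Finset.sum_coe_sort s fun t => A t i * A t j, add_comm]

/-- No zero row: the Gram determinant is at least `#rows - #columns + 1`. -/
theorem card_le_det_gram {κ n : Type*} [Fintype κ] [Fintype n] [DecidableEq n] (A : Matrix κ n ℤ)
    (hrow : ∀ i, A i ≠ 0) (hdet : (Aᵀ * A).det ≠ 0) :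
    (Fintype.card κ : ℤ) - Fintype.card n + 1 ≤ (Aᵀ * A).det := by
  classical
  set R : κ → n → ℚ := fun i j => (A i j : ℚ) with hR
  have hspan : Submodule.span ℚ (Set.range R) = ⊤ := by
    by_contra h
    obtain ⟨f, hf0, hf⟩ := Submodule.exists_dual_map_eq_bot_of_lt_top (lt_top_iff_ne_top.2 h)
      inferInstance
    set x : n → ℚ := fun j => f (Pi.single j 1) with hx
    have hfx : ∀ v : n → ℚ, f v = ∑ j, v j * x j := fun v => by
      conv_lhs => rw [show v = ∑ j, v j • (Pi.single j 1 : n → ℚ) from by
        ext j'; simp [Finset.sum_apply, Pi.single_apply]]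
      simp [x]
    have hx0 : x ≠ 0 := fun h0 => hf0 (LinearMap.ext fun v => by rw [hfx]; simp [h0])
    set Aq : Matrix κ n ℚ := A.map (Int.castRingHom ℚ)
    have hAx : Aq *ᵥ x = 0 := by
      funext i
      have h1 : f (R i) ∈ (Submodule.span ℚ (Set.range R)).map f :=
        Submodule.mem_map_of_mem (Submodule.subset_span ⟨i, rfl⟩)
      rw [hf, Submodule.mem_bot, hfx] at h1
      exact h1
    have h2 : (Aqᵀ * Aq).det = 0 :=
      exists_mulVec_eq_zero_iff.1 ⟨x, hx0, by rw [← mulVec_mulVec, hAx, mulVec_zero]⟩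
    refine hdet ?_
    have h3 : ((Aᵀ * A).det : ℚ) = (Aqᵀ * Aq).det := by
      rw [show ((Aᵀ * A).det : ℚ) = Int.castRingHom ℚ (Aᵀ * A).det from rfl, RingHom.map_det]
      congr 1
      ext i j
      simp [Aq, mul_apply]
    rw [h2] at h3
    exact_mod_cast h3
  obtain ⟨ι, a, hinj, hsp, hli⟩ := exists_linearIndependent' ℚ R
  rw [hspan] at hsp
  haveI : Fintype ι := Fintype.ofInjective a hinj
  let bas : Module.Basis ι ℚ (n → ℚ) := Module.Basis.mk hli hsp.ge
  have hcard : Fintype.card ι = Fintype.card n := by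
    rw [← Module.finrank_eq_card_basis bas, Module.finrank_fintype_fun_eq_card]
  set S : Finset κ := Finset.univ.image a with hS
  set sub : Finset κ → Matrix n n ℤ := fun s =>
    (A.submatrix (fun i : s => (i : κ)) id)ᵀ * A.submatrix (fun i : s => (i : κ)) id with hsub
  have hS1 : 1 ≤ (sub S).det := by
    refine lt_of_le_of_ne (det_gram_nonneg _) fun h0 => ?_
    obtain ⟨x, hx0, hx⟩ := exists_mulVec_eq_zero_iff.2 h0.symm
    refine hx0 ?_
    have h1 : A.submatrix (fun i : S => (i : κ)) id *ᵥ x = 0 := by
      have h2 : x ⬝ᵥ (sub S *ᵥ x) = 0 := by rw [hx, dotProduct_zero]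
      rw [hsub, ← mulVec_mulVec, mulVec_transpose, dotProduct_comm, ← dotProduct_mulVec] at h2
      exact dotProduct_self_eq_zero.1 h2
    set g : (n → ℚ) →ₗ[ℚ] ℚ :=
      { toFun := fun v => ∑ j, v j * (x j : ℚ)
        map_add' := fun v w => by simp [add_mul, Finset.sum_add_distrib]
        map_smul' := fun c v => by simp [Finset.mul_sum, mul_assoc] }
    have hg : g = 0 := bas.ext fun i => by
      have h2 := congrFun h1 ⟨a i, Finset.mem_image_of_mem a (Finset.mem_univ i)⟩
      simp only [bas, Module.Basis.mk_apply, LinearMap.zero_apply, Function.comp_apply]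
      show ∑ j, (A (a i) j : ℚ) * (x j : ℚ) = 0
      exact_mod_cast h2
    funext j
    have := LinearMap.congr_fun hg (Pi.single j 1)
    simpa [g, Pi.single_apply] using this
  have hind : ∀ T : Finset κ, Disjoint S T → 1 + (T.card : ℤ) ≤ (sub (S ∪ T)).det := by
    intro T
    induction T using Finset.induction_on with
    | empty => intro _; rw [Finset.union_empty, Finset.card_empty]; simpa using hS1
    | insert t T htT ih =>
      intro hd
      rw [Finset.disjoint_insert_right] at hd
      have h1 := ih hd.2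
      have htS : t ∉ S ∪ T := by simp [hd.1, htT]
      have h2 := det_gram_add_row (A.submatrix (fun i : (S ∪ T : Finset κ) => (i : κ)) id) (A t)
        (hrow t) (by show (sub (S ∪ T)).det ≠ 0; omega)
      rw [← gram_submatrix_insert A (S ∪ T) htS] at h2
      rw [Finset.union_insert, Finset.card_insert_of_notMem htT]
      change (sub (S ∪ T)).det < (sub (insert t (S ∪ T))).det at h2
      push_cast
      omega
  have h := hind Sᶜ disjoint_compl_right
  rw [Finset.union_compl, Finset.card_compl, hS, Finset.card_image_of_injective _ hinj,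
    Finset.card_univ, hcard] at h
  have hfull : sub Finset.univ = Aᵀ * A := by
    ext i j
    simp only [sub, mul_apply, transpose_apply, submatrix_apply, id_eq]
    exact Finset.sum_coe_sort Finset.univ fun t => A t i * A t j
  rw [hfull] at h
  have : Fintype.card n ≤ Fintype.card κ := by
    rw [← hcard]; exact Fintype.card_le_of_injective a hinj
  rw [Nat.cast_sub this] at h
  omega

/-- The determinant of a form of rank one modulo `p`. -/
theorem pow_dvd_det_of_rank_one {r : ℕ} (p : ℕ) (hp : p.Prime) (Q : Matrix (Fin r) (Fin r) ℤ)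
    (h : ∀ a b c d, (p : ℤ) ∣ Q a b * Q c d - Q a d * Q c b) :
    (p : ℤ) ^ (r - 1) ∣ Q.det := by
  classical
  have hpr := Nat.prime_iff_prime_int.1 hp
  by_cases hall : ∀ i j, (p : ℤ) ∣ Q i j
  · choose q hq using hall
    have : Q = of fun i j => (p : ℤ) * (of q) i j := by ext i j; exact hq i j
    rw [this, det_mul_column, Finset.prod_const, Finset.card_univ, Fintype.card_fin]
    exact (pow_dvd_pow _ (Nat.sub_le r 1)).mul_right _
  push Not at hall
  obtain ⟨a, b, hab⟩ := hall
  set v : Fin r → ℤ := fun i => if i = a then 1 else Q a b with hv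
  set c : Fin r → ℤ := fun i => if i = a then 0 else - Q i b with hc
  set B : Matrix (Fin r) (Fin r) ℤ := of fun i j => v i * Q i j with hB
  set A : Matrix (Fin r) (Fin r) ℤ := of fun i j => B i j + c i * B a j with hA
  have hBa : ∀ j, B a j = Q a j := fun j => by simp [B, v]
  have hdetA : A.det = B.det :=
    det_eq_of_forall_row_eq_smul_add_const c a (by simp [c]) fun i j => rfl
  have hA' : ∀ i, i ≠ a → ∀ j, (p : ℤ) ∣ A i j := fun i hi j => by
    show (p : ℤ) ∣ B i j + c i * B a j
    rw [hBa]
    simp only [B, v, c, of_apply, if_neg hi]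
    convert h a b i j using 1
    ring
  have hdvd : (p : ℤ) ^ (r - 1) ∣ A.det := by
    set q : Fin r → Fin r → ℤ := fun i j => if hi : i = a then A i j else (hA' i hi j).choose
    have hAq : A = of fun i j => (if i = a then 1 else (p : ℤ)) * (of q) i j := by
      ext i j
      simp only [of_apply, q]
      split
      · rw [one_mul]
      · next hi => exact (hA' i hi j).choose_spec
    rw [hAq, det_mul_column, Finset.prod_ite, Finset.prod_const_one, one_mul, Finset.prod_const,
      Finset.filter_ne', Finset.card_erase_of_mem (Finset.mem_univ a), Finset.card_univ,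
      Fintype.card_fin]
    exact dvd_mul_right _ _
  rw [hdetA, hB, det_mul_column, Finset.prod_ite, Finset.prod_const_one, one_mul,
    Finset.prod_const] at hdvd
  exact (hpr.pow_dvd_of_dvd_mul_left _
    (fun h2 => hab (hpr.dvd_of_dvd_pow h2)) hdvd)

end Cfsg.Agent.CharTheory.MajorContrib
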