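import Mathlib
import Cfsg.Agent.Lib.CharTheory.MajorContrib.Form
import Cfsg.Agent.Lib.CharTheory.MajorContrib.Gram

/-!
# The norm of a nonzero vector for a defect one table

An integral symmetric `z` with `z * z = p • z`, trace `p * l`, diagonal prime to `p` and of rank
one modulo `p` gives every vector a norm `0` or at least `l`.
-/

namespace Cfsg.Agent.CharTheory.MajorContrib

open Matrix

theorem norm_eq_zero_or_ge {κ : Type*} [Fintype κ] [DecidableEq κ] (z : Matrix κ κ ℤ) {p : ℕ}
    (hp : p.Prime) (l : ℕ) (hsym : zᵀ = z) (hsq : z * z = (p : ℤ) • z)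
    (htr : z.trace = (p : ℤ) * l) (hdiag : ∀ i, ¬ (p : ℤ) ∣ z i i)
    (hone : ∀ a b c d, (p : ℤ) ∣ z a b * z c d - z a d * z c b) (u : κ → ℤ) :
    u ⬝ᵥ (z *ᵥ u) = 0 ∨ (l : ℤ) ≤ u ⬝ᵥ (z *ᵥ u) := by
  have hp0 : (0 : ℤ) < p := Int.natCast_pos.2 hp.pos
  have hrowsq : ∀ i, ∑ j, z i j * z i j = (p : ℤ) * z i i := fun i => by
    have h := congrFun (congrFun hsq i) i
    rw [mul_apply, Matrix.smul_apply, smul_eq_mul] at h
    rw [← h]
    refine Finset.sum_congr rfl fun j _ => ?_
    rw [show z j i = z i j from congrFun (congrFun hsym i) j]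
  have hlt : ∀ i, z i i < p := fun i => by
    have h1 : z i i * z i i ≤ (p : ℤ) * z i i := by
      rw [← hrowsq i]
      exact Finset.single_le_sum (f := fun j => z i j * z i j) (fun j _ => mul_self_nonneg _)
        (Finset.mem_univ i)
    refine lt_of_le_of_ne ?_ fun e => hdiag i (e ▸ dvd_refl _)
    nlinarith
  set y : Matrix κ κ ℤ := (p : ℤ) • (1 : Matrix κ κ ℤ) - z with hy
  have hl : l ≤ Fintype.card κ := by
    have h1 : z.trace ≤ ∑ _i : κ, (p : ℤ) := Finset.sum_le_sum fun i _ => (hlt i).le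
    rw [htr, Finset.sum_const, nsmul_eq_mul, Finset.card_univ, mul_comm] at h1
    exact_mod_cast le_of_mul_le_mul_right h1 hp0
  obtain ⟨r, hr⟩ : ∃ r, r = Fintype.card κ - l := ⟨_, rfl⟩
  obtain ⟨W, Q, hrep, hG, U, hU⟩ := exists_form y (p : ℤ) hp0.ne' r
    (by rw [hy, transpose_sub, transpose_smul, transpose_one, hsym])
    (by rw [hy]
        simp only [Matrix.sub_mul, Matrix.mul_sub, Matrix.smul_mul, Matrix.mul_smul, Matrix.one_mul,
          Matrix.mul_one, hsq, smul_sub]
        abel)
    (by rw [hy, trace_sub, trace_smul, trace_one, htr, smul_eq_mul, hr, Nat.cast_sub hl]; ring)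
  have hW : ∀ i, W i ≠ 0 := fun i h0 => by
    have h1 := congrFun (congrFun hrep i) i
    have h2 : (W * Q * Wᵀ) i i = 0 := by simp [mul_apply, h0]
    rw [h2, hy, Matrix.sub_apply, Matrix.smul_apply, one_apply_eq, smul_eq_mul, mul_one] at h1
    have := hlt i
    omega
  have hQone : ∀ a b c d, (p : ℤ) ∣ Q a b * Q c d - Q a d * Q c b := by
    intro a b c d
    set V : Matrix (Fin r) (Fin r) ℤ := U * z * Uᵀ with hV
    have hQV : ∀ i j, (p : ℤ) ∣ Q i j + V i j := fun i j => ⟨(U * Uᵀ) i j, by
      rw [hU, hy, hV, Matrix.mul_sub, Matrix.sub_mul, Matrix.sub_apply, Matrix.mul_smul,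
        Matrix.mul_one, Matrix.smul_mul, Matrix.smul_apply, smul_eq_mul, sub_add_cancel]⟩
    have hVa : ∀ i j, V i j = ∑ s, ∑ t, U i s * z s t * U j t := fun i j => by
      rw [hV, mul_apply, Finset.sum_comm]
      simp only [mul_apply, transpose_apply, Finset.sum_mul]
    have hV1 : (p : ℤ) ∣ V a b * V c d - V a d * V c b := by
      simp only [hVa, Finset.sum_mul, Finset.mul_sum]
      have key : ∀ s t s' t', (p : ℤ) ∣
          U a s * z s t * U b t * (U c s' * z s' t' * U d t') -
          U a s * z s t' * U d t' * (U c s' * z s' t * U b t) := fun s t s' t' => by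
        obtain ⟨w, hw⟩ := hone s t s' t'
        exact ⟨U a s * U b t * U c s' * U d t' * w, by
          linear_combination (U a s * U b t * U c s' * U d t') * hw⟩
      have swap13 : ∀ F : κ → κ → κ → ℤ, ∑ a, ∑ b, ∑ c, F a b c = ∑ c, ∑ b, ∑ a, F a b c := by
        intro F
        rw [Finset.sum_comm, Finset.sum_congr rfl fun b _ => Finset.sum_comm, Finset.sum_comm]
      conv_rhs => arg 2; arg 2; ext s'; rw [swap13]
      rw [← Finset.sum_sub_distrib]
      refine Finset.dvd_sum fun s' _ => ?_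
      rw [← Finset.sum_sub_distrib]
      refine Finset.dvd_sum fun t' _ => ?_
      rw [← Finset.sum_sub_distrib]
      refine Finset.dvd_sum fun s _ => ?_
      rw [← Finset.sum_sub_distrib]
      exact Finset.dvd_sum fun t _ => key s t s' t'
    obtain ⟨w1, h1⟩ := hQV a b
    obtain ⟨w2, h2⟩ := hQV c d
    obtain ⟨w3, h3⟩ := hQV a d
    obtain ⟨w4, h4⟩ := hQV c b
    obtain ⟨w, hw⟩ := hV1
    exact ⟨w + (Q c d) * w1 - V a b * w2 - (Q c b) * w3 + V a d * w4, by
      linear_combination hw + Q c d * h1 - V a b * h2 - Q c b * h3 + V a d * h4⟩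
  have hdetle : (Wᵀ * W).det ≤ p := by
    have h1 : Q.det * (Wᵀ * W).det = (p : ℤ) ^ r := by
      rw [← det_mul, hG, det_smul, det_one, mul_one, Fintype.card_fin]
    rcases Nat.eq_zero_or_pos r with hr0 | hr0
    · haveI : IsEmpty (Fin r) := by rw [hr0]; infer_instance
      rw [det_isEmpty]
      omega
    obtain ⟨w, hw⟩ := pow_dvd_det_of_rank_one p hp Q hQone
    rw [hw, mul_assoc, show (p : ℤ) ^ r = (p : ℤ) ^ (r - 1) * p by
      rw [← pow_succ, Nat.sub_add_cancel hr0]] at h1
    have h2 := mul_left_cancel₀ (pow_ne_zero _ hp0.ne') h1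
    exact Int.le_of_dvd hp0 ⟨w, by linarith [mul_comm w (Wᵀ * W).det]⟩
  have hdetpos : 0 < (Wᵀ * W).det := by
    refine lt_of_le_of_ne (det_gram_nonneg W) fun h0 => ?_
    have h1 : Q.det * (Wᵀ * W).det = (p : ℤ) ^ r := by
      rw [← det_mul, hG, det_smul, det_one, mul_one, Fintype.card_fin]
    rw [← h0, mul_zero] at h1
    exact pow_ne_zero r hp0.ne' h1.symm
  set A : Matrix κ (Fin r ⊕ Unit) ℤ := fromCols W (replicateCol Unit u) with hA
  set N : ℤ := u ⬝ᵥ (z *ᵥ u) with hN
  have hGram : (Aᵀ * A).det * p = (Wᵀ * W).det * N := by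
    have h1 : Aᵀ * A * fromBlocks 1 (-(Q * (Wᵀ * replicateCol Unit u))) 0 ((p : ℤ) • 1) =
        fromBlocks (Wᵀ * W) 0 ((replicateCol Unit u)ᵀ * W)
          (replicateCol Unit fun _ : Unit => N) := by
      rw [hA, transpose_fromCols, fromRows_mul_fromCols, fromBlocks_multiply]
      congr 1
      · simp
      · rw [Matrix.mul_neg, ← Matrix.mul_assoc (Wᵀ * W) Q,
          show Wᵀ * W * Q = (p : ℤ) • (1 : Matrix (Fin r) (Fin r) ℤ) from by
            have h := congrArg Matrix.transpose hG
            have hQs : Qᵀ = Q := by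
              rw [hU, transpose_mul, transpose_mul, transpose_transpose, ← Matrix.mul_assoc, hy,
                transpose_sub, transpose_smul, transpose_one, hsym]
            rwa [transpose_mul, hQs, transpose_mul, transpose_transpose, transpose_smul,
              transpose_one] at h]
        rw [Matrix.smul_mul, Matrix.one_mul, Matrix.mul_smul, Matrix.mul_one, neg_add_cancel]
      · simp
      · rw [Matrix.mul_smul, Matrix.mul_one]
        ext i j
        have hzy : z = (p : ℤ) • (1 : Matrix κ κ ℤ) - W * Q * Wᵀ := by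
          rw [← hrep, hy]; abel
        rw [replicateCol_apply, hN, hzy, sub_mulVec, smul_mulVec, one_mulVec, dotProduct_sub,
          dotProduct_smul, ← mulVec_mulVec, ← mulVec_mulVec]
        simp [mul_apply, dotProduct, mulVec, Finset.mul_sum, Matrix.mul_assoc, Matrix.natCast_apply]
        ring
    have h2 := congrArg Matrix.det h1
    rw [det_mul, det_fromBlocks_zero₂₁, det_fromBlocks_zero₁₂, det_one, one_mul, det_smul, det_one,
      mul_one, det_unique (replicateCol Unit fun _ : Unit => N)] at h2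
    simpa using h2
  rcases eq_or_ne N 0 with h0 | h0
  · exact Or.inl h0
  right
  have hAdet : (Aᵀ * A).det ≠ 0 := fun h => h0 (by
    rw [h, zero_mul] at hGram
    exact (mul_eq_zero.1 hGram.symm).resolve_left hdetpos.ne')
  have hArow : ∀ i, A i ≠ 0 := fun i h => hW i (funext fun j => by
    have := congrFun h (Sum.inl j)
    simpa [A] using this)
  have h3 := card_le_det_gram A hArow hAdet
  rw [Fintype.card_sum, Fintype.card_fin, Fintype.card_unit] at h3
  have h4 : (l : ℤ) ≤ (Aᵀ * A).det := by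
    push_cast [hr, Nat.cast_sub hl] at h3
    linarith
  have hApos : 0 < (Aᵀ * A).det := lt_of_le_of_ne (det_gram_nonneg A) hAdet.symm
  have hNpos : 0 < N := by nlinarith
  nlinarith

end Cfsg.Agent.CharTheory.MajorContrib
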