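import Mathlib
import Cfsg.Agent.BlockCharsA.Subsection
import Cfsg.Agent.Lib.CharTheory.MajorContrib.Lattice
import Cfsg.Agent.Lib.CharTheory.MajorContrib.Mean

/-!
# Blocks of defect at most one more than a central element

Let `y` have order `p ^ k` and `b` be a block of its centraliser of defect at most `k + 1`.  The
characters of `b` trivial on `y` carry a table `z₀` with `z₀ * z₀ = D • z₀`, `D ∈ {1, p}`, so the
norms of the contribution table of `b` are `0` or at least the rank of `b`.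
-/

set_option linter.style.haveILetI false
set_option linter.unusedSectionVars false

namespace Cfsg.Agent.CharTheory.MajorContrib

open Cfsg.Agent.Blocks Cfsg.Agent.Characters Cfsg.Agent.BlockCharsA
open Cfsg.Agent.BlockCharsA.RegularPart Cfsg.Agent.BlockCharsA.Subsection
open scoped ComplexConjugate

universe u

variable {G : Type u} [Group G] [Finite G] {p : ℕ} {M : Ideal Cfsg.AlgInt} {y : G}

/-- The value at a product with a power of the central element. -/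
theorem value_own_pow (η : Cfsg.IrrCharacter (Subgroup.centralizer ({y} : Set G))) (i : ℕ)
    (g : Subgroup.centralizer ({y} : Set G)) :
    (η : Subgroup.centralizer ({y} : Set G) → ℂ) (own y ^ i * g) =
      eps y η ^ i * (η : Subgroup.centralizer ({y} : Set G) → ℂ) g := by
  induction i with
  | zero => simp
  | succ i ih =>
    rw [pow_succ', mul_assoc, Weight.value_mul_central η (self_commute y), ih, eps, pow_succ]
    ring

/-- The contributions of characters with different values at `y` cancel. -/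
theorem fibre_orthogonal (hM : Cfsg.IsPModular p M) {k : ℕ} (hk : orderOf y = p ^ k)
    {b : Set (Cfsg.IrrCharacter (Subgroup.centralizer ({y} : Set G)))} (hb : Cfsg.IsPBlock M b)
    {bs : Finset (Cfsg.IrrCharacter (Subgroup.centralizer ({y} : Set G)))}
    (hbs : ∀ η, η ∈ bs ↔ η ∈ b) {i : ℕ} (hi : ¬ p ^ k ∣ i) :
    (∀ η η' : Cfsg.IrrCharacter (Subgroup.centralizer ({y} : Set G)),
      ∑ θ ∈ bs, eps y θ ^ i * (Contrib.contrib p b η θ * Contrib.contrib p b θ η') = 0) ∧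
    ∑ θ ∈ bs, eps y θ ^ i * Contrib.contrib p b θ θ = 0 := by
  classical
  haveI := Fintype.ofFinite (Subgroup.centralizer ({y} : Set G))
  haveI := Fintype.ofFinite (Cfsg.IrrCharacter (Subgroup.centralizer ({y} : Set G)))
  have hsing : ∀ t : Subgroup.centralizer ({y} : Set G), ¬ p ∣ orderOf t →
      p ∣ orderOf (own y ^ i * t) := by
    intro t ht
    have hord : orderOf (own y) = p ^ k := by
      rw [← hk, ← Subgroup.orderOf_coe]; rfl
    obtain ⟨j, -, hj⟩ := (Nat.dvd_prime_pow hM.1).1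
      (hord ▸ orderOf_pow_dvd i : orderOf (own y ^ i) ∣ p ^ k)
    have hj0 : j ≠ 0 := fun h => by
      rw [h, pow_zero, orderOf_eq_one_iff, ← orderOf_dvd_iff_pow_eq_one, hord] at hj
      exact hi hj
    rw [((self_commute y t).pow_left i).orderOf_mul_eq_mul_orderOf_of_coprime
      (by rw [hj]; exact (hM.1.coprime_iff_not_dvd.2 ht).pow_left j), hj]
    exact (dvd_pow_self p hj0).mul_right _
  have hker : ∀ s t : Subgroup.centralizer ({y} : Set G), ¬ p ∣ orderOf s → ¬ p ∣ orderOf t →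
      ∑ θ ∈ bs, eps y θ ^ i * ((θ : Subgroup.centralizer ({y} : Set G) → ℂ) t *
        conj ((θ : Subgroup.centralizer ({y} : Set G) → ℂ) s)) = 0 := by
    intro s t hs ht
    have h1 := Rank.kernel_sing_right hM (intEl_blockIdem hM hb) hs (hsing t ht)
    have h2 := conj_kernel_swap b s (own y ^ i * t)
    rw [h1, map_zero] at h2
    rw [blockKernelAt_eq_sum, eq_comm, mul_eq_zero, or_iff_right (inv_ne_zero natCard_ne_zero),
      ← Finset.sum_filter] at h2
    refine Eq.trans (Finset.sum_congr (by ext; simp [hbs]) fun θ _ => ?_) h2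
    rw [value_own_pow]; ring
  have hmul : ∀ η η' : Cfsg.IrrCharacter (Subgroup.centralizer ({y} : Set G)),
      ∑ θ ∈ bs, eps y θ ^ i * (regSum p (η : Subgroup.centralizer ({y} : Set G) → ℂ)
          (θ : Subgroup.centralizer ({y} : Set G) → ℂ) *
        regSum p (θ : Subgroup.centralizer ({y} : Set G) → ℂ)
          (η' : Subgroup.centralizer ({y} : Set G) → ℂ)) = 0 := by
    intro η η'
    simp only [regSum_eq_sum, Finset.mul_sum, Finset.sum_mul]
    rw [Finset.sum_comm]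
    refine Finset.sum_eq_zero fun t _ => ?_
    rw [Finset.sum_comm]
    refine Finset.sum_eq_zero fun s _ => ?_
    by_cases hs : p ∣ orderOf s
    · simp [hs]
    by_cases ht : p ∣ orderOf t
    · simp [ht]
    simp only [hs, ht, not_false_eq_true, if_true]
    rw [Finset.sum_congr rfl (g := fun θ : Cfsg.IrrCharacter (Subgroup.centralizer ({y} : Set G)) =>
        ((η : Subgroup.centralizer ({y} : Set G) → ℂ) s *
          conj ((η' : Subgroup.centralizer ({y} : Set G) → ℂ) t)) *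
        (eps y θ ^ i * ((θ : Subgroup.centralizer ({y} : Set G) → ℂ) t *
          conj ((θ : Subgroup.centralizer ({y} : Set G) → ℂ) s)))) fun θ _ => by ring,
      ← Finset.mul_sum, hker s t hs ht, mul_zero]
  refine ⟨fun η η' => ?_, ?_⟩
  · simp only [Contrib.contrib]
    rw [Finset.sum_congr rfl (g := fun θ : Cfsg.IrrCharacter (Subgroup.centralizer ({y} : Set G)) =>
        (((p ^ Cfsg.blockDefect p b : ℕ) : ℂ) /
          (Nat.card (Subgroup.centralizer ({y} : Set G)) : ℂ)) ^ 2 *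
        (eps y θ ^ i * (regSum p (η : Subgroup.centralizer ({y} : Set G) → ℂ)
            (θ : Subgroup.centralizer ({y} : Set G) → ℂ) *
          regSum p (θ : Subgroup.centralizer ({y} : Set G) → ℂ)
            (η' : Subgroup.centralizer ({y} : Set G) → ℂ)))) fun θ _ => by ring,
      ← Finset.mul_sum, hmul, mul_zero]
  · simp only [Contrib.contrib, regSum_eq_sum, Finset.mul_sum]
    rw [Finset.sum_comm]
    refine Finset.sum_eq_zero fun s _ => ?_
    by_cases hs : p ∣ orderOf s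
    · simp [hs]
    simp only [hs, not_false_eq_true, if_true]
    rw [Finset.sum_congr rfl (g := fun θ : Cfsg.IrrCharacter (Subgroup.centralizer ({y} : Set G)) =>
        (((p ^ Cfsg.blockDefect p b : ℕ) : ℂ) /
          (Nat.card (Subgroup.centralizer ({y} : Set G)) : ℂ)) *
        (eps y θ ^ i * ((θ : Subgroup.centralizer ({y} : Set G) → ℂ) s *
          conj ((θ : Subgroup.centralizer ({y} : Set G) → ℂ) s)))) fun θ _ => by ring,
      ← Finset.mul_sum, hker s s hs hs, mul_zero]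

/-- The fibre over `1` carries a `p ^ (d - k)` multiple of a projection. -/
theorem fibre_table (hM : Cfsg.IsPModular p M) {k : ℕ} (hk : orderOf y = p ^ k)
    {b : Set (Cfsg.IrrCharacter (Subgroup.centralizer ({y} : Set G)))} (hb : Cfsg.IsPBlock M b)
    {bs : Finset (Cfsg.IrrCharacter (Subgroup.centralizer ({y} : Set G)))}
    (hbs : ∀ η, η ∈ bs ↔ η ∈ b)
    (z : Cfsg.IrrCharacter (Subgroup.centralizer ({y} : Set G)) →
      Cfsg.IrrCharacter (Subgroup.centralizer ({y} : Set G)) → ℤ)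
    (hz : ∀ η ∈ bs, ∀ η' ∈ bs, Contrib.contrib p b η η' = (z η η' : ℂ))
    (d l : ℕ)
    (hsq : ∀ η ∈ bs, ∀ η' ∈ bs, ∑ θ ∈ bs, z η θ * z θ η' = (p : ℤ) ^ d * z η η')
    (htr : ∑ η ∈ bs, z η η = (p : ℤ) ^ d * l) [DecidablePred fun θ => eps y θ = 1] :
    (∀ η ∈ bs, ∀ η' ∈ bs, ((p : ℤ) ^ k) * ∑ θ ∈ bs.filter (fun θ => eps y θ = 1), z η θ * z θ η' =
      (p : ℤ) ^ d * z η η') ∧
    ((p : ℤ) ^ k) * ∑ θ ∈ bs.filter (fun θ => eps y θ = 1), z θ θ = (p : ℤ) ^ d * l := by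
  classical
  set q := p ^ k with hq
  have hq0 : 0 < q := pow_pos hM.1.pos k
  have hyq : y ^ q = 1 := by rw [← hk, pow_orderOf_eq_one]
  have heps : ∀ θ, ∑ i ∈ Finset.range q, eps y θ ^ i = if eps y θ = 1 then (q : ℂ) else 0 := by
    intro θ
    split
    · next h => simp [h]
    · next h => rw [geom_sum_eq h, eps_pow hyq, sub_self, zero_div]
  have key : ∀ f : Cfsg.IrrCharacter (Subgroup.centralizer ({y} : Set G)) → ℤ,
      (∀ i, ¬ q ∣ i → ∑ θ ∈ bs, eps y θ ^ i * (f θ : ℂ) = 0) →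
      ((p : ℤ) ^ k) * ∑ θ ∈ bs.filter (fun θ => eps y θ = 1), f θ = ∑ θ ∈ bs, f θ := by
    intro f hf
    apply Int.cast_injective (α := ℂ)
    push_cast
    have h1 : ∑ i ∈ Finset.range q, ∑ θ ∈ bs, eps y θ ^ i * (f θ : ℂ) = ∑ θ ∈ bs, (f θ : ℂ) := by
      rw [Finset.sum_eq_single 0 (fun i hi hi0 => hf i fun hd => ?_)
        (fun h => absurd (Finset.mem_range.2 hq0) h)]
      · simp
      · rw [Finset.mem_range] at hi
        have := Nat.le_of_dvd (Nat.pos_of_ne_zero hi0) hd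
        omega
    rw [← h1, Finset.sum_comm, Finset.sum_filter, Finset.mul_sum]
    refine Finset.sum_congr rfl fun θ _ => ?_
    rw [← Finset.sum_mul, heps θ, hq]
    split <;> push_cast <;> simp
  refine ⟨fun η hη η' hη' => ?_, ?_⟩
  · rw [key (fun θ => z η θ * z θ η') fun i hi => ?_, hsq η hη η' hη']
    rw [← (fibre_orthogonal hM hk hb hbs hi).1 η η']
    refine Finset.sum_congr rfl fun θ hθ => ?_
    rw [hz η hη θ hθ, hz θ hθ η' hη', Int.cast_mul]
  · rw [key (fun θ => z θ θ) fun i hi => ?_, htr]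
    rw [← (fibre_orthogonal hM hk hb hbs hi).2]
    exact Finset.sum_congr rfl fun θ hθ => by rw [hz θ hθ θ hθ]

/-- Rank one modulo `p`, units at height zero and divisibility at positive height. -/
theorem mod_prime_table {H : Type u} [Group H] [Finite H] (hM : Cfsg.IsPModular p M)
    {b : Set (Cfsg.IrrCharacter H)} (hb : Cfsg.IsPBlock M b)
    (z : Cfsg.IrrCharacter H → Cfsg.IrrCharacter H → ℤ)
    (hz : ∀ η ∈ b, ∀ η' ∈ b, Contrib.contrib p b η η' = (z η η' : ℂ)) :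
    (∀ a ∈ b, ∀ a' ∈ b, ∀ c ∈ b, ∀ c' ∈ b, (p : ℤ) ∣ z a a' * z c c' - z a c' * z c a') ∧
    (∀ η ∈ b, ∀ η' ∈ b, ((p : ℤ) ∣ z η η' ↔ ¬ (Cfsg.blockHeight p b (η : H → ℂ) = 0 ∧
      Cfsg.blockHeight p b (η' : H → ℂ) = 0))) := by
  classical
  haveI := Fintype.ofFinite H
  haveI := Fintype.ofFinite (Cfsg.IrrCharacter H)
  set a := (Nat.card H).factorization p with ha
  set d := Cfsg.blockDefect p b with hd
  set δ : Cfsg.IrrCharacter H → ℂ := fun η =>
    ((Cfsg.charDegree (η : H → ℂ) : ℕ) : ℂ) / ((p ^ (a - d) : ℕ) : ℂ) with hδ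
  have hδr : ∀ η ∈ b, Cfsg.MemLocalRing M (δ η) := fun η hη =>
    ring_natCast_div hM (pow_ne_zero _ hM.1.ne_zero) (by
      rw [hM.1.factorization_pow, Finsupp.single_eq_same]
      have := degree_factorization_eq hM hb hη
      omega)
  have hδi : ∀ η ∈ b, (Cfsg.MemLocalIdeal M (δ η) ↔ Cfsg.blockHeight p b (η : H → ℂ) ≠ 0) := by
    intro η hη
    have hdeg := degree_factorization_eq hM hb hη
    have hle := blockDefect_le p b
    constructor
    · intro hI h0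
      exact not_ideal_natCast_div hM (charDegree_pos η).ne' (pow_ne_zero _ hM.1.ne_zero) (by
        rw [hM.1.factorization_pow, Finsupp.single_eq_same]
        omega) hI
    · intro h0
      exact ideal_natCast_div hM (pow_ne_zero _ hM.1.ne_zero) (by
        rw [hM.1.factorization_pow, Finsupp.single_eq_same]
        omega)
  have hzr : ∀ η ∈ b, ∀ η' ∈ b, (z η η' : ℂ) = δ η' * ratio p (η : H → ℂ) (η' : H → ℂ) := by
    intro η hη η' hη'
    obtain ⟨w, hw, hw', -⟩ := exists_coeff hM η η'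
    rw [Contrib.classInner_hat_regSum, hw'] at hw
    rw [← hz η hη η' hη', Contrib.contrib, hδ]
    show _ = ((Cfsg.charDegree (η' : H → ℂ) : ℕ) : ℂ) / ((p ^ (a - d) : ℕ) : ℂ) * _
    have hpa : ((p ^ a : ℕ) : ℂ) = ((p ^ d : ℕ) : ℂ) * ((p ^ (a - d) : ℕ) : ℂ) := by
      rw [← Nat.cast_mul, ← pow_add, Nat.add_sub_cancel' (blockDefect_le p b)]
    rw [← ha, hpa] at hw
    rw [div_mul_eq_mul_div _ ((p ^ (a - d) : ℕ) : ℂ), ← hw,
      eq_div_iff (natCast_p_pow_ne_zero hM _)]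
    ring
  obtain ⟨η₀, hη₀, hη₀h⟩ := exists_height_zero hM hb
  refine ⟨fun x hx x' hx' c hc c' hc' => ?_, fun η hη η' hη' => ?_⟩
  · rw [← ideal_intCast_iff hM]
    push_cast
    rw [hzr x hx x' hx', hzr c hc c' hc', hzr x hx c' hc', hzr c hc x' hx']
    show Cong M _ _
    have e1 : Cong M
        (δ x' * ratio p (x : H → ℂ) (x' : H → ℂ) * (δ c' * ratio p (c : H → ℂ) (c' : H → ℂ)))
        (δ x' * δ c' * (ratio p (x : H → ℂ) (η₀ : H → ℂ) * ratio p (c : H → ℂ) (η₀ : H → ℂ))) := by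
      rw [mul_mul_mul_comm]
      refine cong_mul_left hM (ring_mul hM (hδr x' hx') (hδr c' hc')) ?_
      refine cong_trans hM (cong_mul_left hM (ratio_ring hM x x') (ratio_cong hM hb c hc' hη₀)) ?_
      rw [mul_comm, mul_comm (ratio p (x : H → ℂ) (η₀ : H → ℂ))]
      exact cong_mul_left hM (ratio_ring hM c η₀) (ratio_cong hM hb x hx' hη₀)
    have e2 : Cong M
        (δ c' * ratio p (x : H → ℂ) (c' : H → ℂ) * (δ x' * ratio p (c : H → ℂ) (x' : H → ℂ)))
        (δ x' * δ c' * (ratio p (x : H → ℂ) (η₀ : H → ℂ) * ratio p (c : H → ℂ) (η₀ : H → ℂ))) := by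
      rw [mul_mul_mul_comm, mul_comm (δ c') (δ x')]
      refine cong_mul_left hM (ring_mul hM (hδr x' hx') (hδr c' hc')) ?_
      refine cong_trans hM (cong_mul_left hM (ratio_ring hM x c') (ratio_cong hM hb c hx' hη₀)) ?_
      rw [mul_comm, mul_comm (ratio p (x : H → ℂ) (η₀ : H → ℂ))]
      exact cong_mul_left hM (ratio_ring hM c η₀) (ratio_cong hM hb x hc' hη₀)
    exact cong_trans hM e1 (cong_symm hM e2)
  · rw [← ideal_intCast_iff hM, hzr η hη η' hη', ideal_mul_iff hM (hδr η' hη') (ratio_ring hM η η'),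
      hδi η' hη']
    have h := ratio_unit_iff hM hb hη hη'
    rw [not_and_or]
    exact ⟨fun h' => h'.elim Or.inr fun h'' => Or.inl fun h0 => h.2 h0 h'',
      fun h' => h'.elim (fun h'' => Or.inr (not_not.1 fun hn => h'' (h.1 hn))) Or.inl⟩

/-- Norms over the contribution table are `0` or at least the rank. -/
theorem form_eq_zero_or_ge (hM : Cfsg.IsPModular p M) {k : ℕ} (hk : orderOf y = p ^ k)
    {b : Set (Cfsg.IrrCharacter (Subgroup.centralizer ({y} : Set G)))} (hb : Cfsg.IsPBlock M b)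
    {bs : Finset (Cfsg.IrrCharacter (Subgroup.centralizer ({y} : Set G)))}
    (hbs : ∀ η, η ∈ bs ↔ η ∈ b)
    (z : Cfsg.IrrCharacter (Subgroup.centralizer ({y} : Set G)) →
      Cfsg.IrrCharacter (Subgroup.centralizer ({y} : Set G)) → ℤ)
    (hz : ∀ η ∈ bs, ∀ η' ∈ bs, Contrib.contrib p b η η' = (z η η' : ℂ))
    (d l : ℕ) (hd : d ≤ k + 1)
    (hsym : ∀ η ∈ bs, ∀ η' ∈ bs, z η' η = z η η')
    (hsq : ∀ η ∈ bs, ∀ η' ∈ bs, ∑ θ ∈ bs, z η θ * z θ η' = (p : ℤ) ^ d * z η η')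
    (htr : ∑ η ∈ bs, z η η = (p : ℤ) ^ d * l)
    (u : Cfsg.IrrCharacter (Subgroup.centralizer ({y} : Set G)) → ℤ) :
    form bs z u u = 0 ∨ (l : ℤ) ≤ form bs z u u := by
  classical
  have hp := hM.1
  obtain ⟨hone, hdvd⟩ := mod_prime_table hM hb z
    fun η hη η' hη' => hz η ((hbs η).2 hη) η' ((hbs η').2 hη')
  obtain ⟨hf, hft⟩ := fibre_table hM hk hb hbs z hz d l hsq htr
  set s₀ := bs.filter (fun θ => eps y θ = 1) with hs₀
  have hs₀b : ∀ θ ∈ s₀, θ ∈ bs := fun θ hθ => (Finset.mem_filter.1 hθ).1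
  obtain ⟨η₀, hη₀, hη₀h⟩ := exists_height_zero hM hb
  have hη₀s : η₀ ∈ bs := (hbs η₀).2 hη₀
  have h00 : ¬ (p : ℤ) ∣ z η₀ η₀ := fun h => (hdvd η₀ hη₀ η₀ hη₀).1 h ⟨hη₀h, hη₀h⟩
  -- `k ≤ d`
  have hkd : k ≤ d := by
    by_contra hlt
    push Not at hlt
    have h := hf η₀ hη₀s η₀ hη₀s
    rw [← Nat.sub_add_cancel hlt, pow_add, mul_assoc, pow_succ, mul_assoc] at h
    have h1 : (p : ℤ) ^ d * z η₀ η₀ = (p : ℤ) ^ d * ((p : ℤ) ^ (k - (d + 1)) * ((p : ℤ) *
        ∑ θ ∈ s₀, z η₀ θ * z θ η₀)) := by rw [← h]; ring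
    have h2 := mul_left_cancel₀ (pow_ne_zero d (Int.natCast_ne_zero.2 hp.ne_zero)) h1
    exact h00 ⟨(p : ℤ) ^ (k - (d + 1)) * ∑ θ ∈ s₀, z η₀ θ * z θ η₀, by linear_combination h2⟩
  obtain ⟨j, rfl⟩ := Nat.exists_eq_add_of_le hkd
  have hj : j ≤ 1 := by omega
  set D : ℤ := (p : ℤ) ^ j with hD
  have hD0 : 0 < D := pow_pos (Int.natCast_pos.2 hp.pos) j
  have hcancel : ∀ x w : ℤ, (p : ℤ) ^ k * x = (p : ℤ) ^ (k + j) * w → x = D * w := by
    intro x w h
    rw [pow_add, mul_assoc] at h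
    exact mul_left_cancel₀ (pow_ne_zero k (Int.natCast_ne_zero.2 hp.ne_zero)) h
  have hsq0 : ∀ η ∈ bs, ∀ η' ∈ bs, ∑ θ ∈ s₀, z η θ * z θ η' = D * z η η' :=
    fun η hη η' hη' => hcancel _ _ (hf η hη η' hη')
  have htr0 : ∑ θ ∈ s₀, z θ θ = D * l := hcancel _ _ hft
  -- a member of height zero
  obtain ⟨θ₀, hθ₀, hθ₀h⟩ : ∃ θ ∈ s₀, Cfsg.blockHeight p b
      (θ : Subgroup.centralizer ({y} : Set G) → ℂ) = 0 := by
    by_contra hcon
    push Not at hcon
    have hsum : (p : ℤ) * p ∣ D * z η₀ η₀ := by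
      rw [← hsq0 η₀ hη₀s η₀ hη₀s]
      refine Finset.dvd_sum fun θ hθ => ?_
      have hθb := (hbs θ).1 (hs₀b θ hθ)
      exact mul_dvd_mul ((hdvd η₀ hη₀ θ hθb).2 fun h => hcon θ hθ h.2)
        ((hdvd θ hθb η₀ hη₀).2 fun h => hcon θ hθ h.1)
    rcases Nat.le_one_iff_eq_zero_or_eq_one.1 hj with hj' | hj'
    · rw [hD, hj', pow_zero, one_mul] at hsum
      exact h00 ((dvd_mul_right _ _).trans hsum)
    · rw [hD, hj', pow_one] at hsum
      exact h00 ((mul_dvd_mul_iff_left (Int.natCast_ne_zero.2 hp.ne_zero)).1 hsum)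
  have hpos : ∀ θ ∈ bs, 0 < z θ θ := fun θ hθ =>
    Contrib.contrib_self_pos hM b θ (hz θ hθ θ hθ)
  have hrow : ∀ θ ∈ s₀, ∀ θ' ∈ s₀, θ' ≠ θ → z θ θ * z θ θ + z θ θ' * z θ θ' ≤ D * z θ θ := by
    intro θ hθ θ' hθ' hne
    rw [← hsq0 θ (hs₀b θ hθ) θ (hs₀b θ hθ),
      Finset.sum_congr rfl fun a ha => by rw [hsym θ (hs₀b θ hθ) a (hs₀b a ha)],
      ← Finset.sum_pair (f := fun a => z θ a * z θ a) hne.symm]
    exact Finset.sum_le_sum_of_subset_of_nonneg
      (Finset.insert_subset hθ (Finset.singleton_subset_iff.2 hθ')) fun a _ _ => mul_self_nonneg _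
  have hθ₀b := (hbs θ₀).1 (hs₀b θ₀ hθ₀)
  have hθ₀u : ¬ (p : ℤ) ∣ z θ₀ θ₀ := fun h => (hdvd θ₀ hθ₀b θ₀ hθ₀b).1 h ⟨hθ₀h, hθ₀h⟩
  -- the image vector
  set v : Cfsg.IrrCharacter (Subgroup.centralizer ({y} : Set G)) → ℤ :=
    fun θ => ∑ η ∈ bs, z θ η * u η with hv
  have hN : D * form bs z u u = ∑ θ ∈ s₀, v θ * v θ := by
    simp only [form, v, Finset.mul_sum, Finset.sum_mul]
    conv_rhs => rw [Finset.sum_comm]
    refine Finset.sum_congr rfl fun η hη => ?_
    conv_rhs => rw [Finset.sum_comm]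
    refine Finset.sum_congr rfl fun η' hη' => ?_
    rw [show D * (u η * u η' * z η η') = u η * u η' * (D * z η η') by ring,
      ← hsq0 η hη η' hη', Finset.mul_sum]
    refine Finset.sum_congr rfl fun θ hθ => ?_
    rw [hsym θ (hs₀b θ hθ) η hη]
    ring
  rcases Nat.le_one_iff_eq_zero_or_eq_one.1 hj with hj' | hj'
  · -- `D = 1`
    have hD1 : D = 1 := by rw [hD, hj', pow_zero]
    rw [hD1, one_mul] at hN htr0
    have hsub : ∀ θ ∈ s₀, θ = θ₀ := by
      intro θ hθ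
      by_contra hne
      have h1 := hrow θ hθ θ₀ hθ₀ (Ne.symm hne)
      rw [hD1, one_mul] at h1
      have h2 := hpos θ (hs₀b θ hθ)
      have h3 : z θ θ₀ * z θ θ₀ = 0 := by nlinarith [mul_self_nonneg (z θ θ₀)]
      have h4 : z θ θ ≤ 1 := by nlinarith
      have hθb := (hbs θ).1 (hs₀b θ hθ)
      refine (hdvd θ hθb θ₀ hθ₀b).1 ?_ ⟨?_, hθ₀h⟩
      · rw [mul_self_eq_zero.1 h3]; exact dvd_zero _
      · by_contra h0
        have h5 := (hdvd θ hθb θ hθb).2 fun h => h0 h.1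
        rw [show z θ θ = 1 by omega] at h5
        exact hp.one_lt.ne' (Nat.dvd_one.1 (by exact_mod_cast h5))
    have hs : s₀ = {θ₀} := Finset.eq_singleton_iff_unique_mem.2 ⟨hθ₀, hsub⟩
    have hl : l ≤ 1 := by
      have h1 := hsq0 θ₀ (hs₀b θ₀ hθ₀) θ₀ (hs₀b θ₀ hθ₀)
      rw [hs, Finset.sum_singleton, hD1, one_mul] at h1
      rw [hs, Finset.sum_singleton] at htr0
      have h2 : z θ₀ θ₀ = 1 := by
        have := hpos θ₀ (hs₀b θ₀ hθ₀)
        nlinarith
      omega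
    rcases eq_or_ne (form bs z u u) 0 with h | h
    · exact Or.inl h
    · have : 0 ≤ form bs z u u := hN ▸ Finset.sum_nonneg fun _ _ => mul_self_nonneg _
      right; omega
  -- `D = p`
  have hDp : D = p := by rw [hD, hj', pow_one]
  have hh0 : ∀ θ ∈ s₀, ¬ (p : ℤ) ∣ z θ θ := by
    intro θ hθ hdθ
    have hne : θ₀ ≠ θ := fun e => hθ₀u (e ▸ hdθ)
    have h1 := hrow θ hθ θ₀ hθ₀ hne
    have h2 := hpos θ (hs₀b θ hθ)
    have h3 := Int.le_of_dvd h2 hdθ
    have hθb := (hbs θ).1 (hs₀b θ hθ)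
    rw [hDp] at h1
    have h4 : z θ θ₀ ≠ 0 := by
      obtain ⟨w, hw, -, hw0, -⟩ := Contrib.exists_int hM hb hθ₀b hθb
      rw [hz θ₀ (hs₀b θ₀ hθ₀) θ (hs₀b θ hθ), Int.cast_inj] at hw
      rw [← hsym θ (hs₀b θ hθ) θ₀ (hs₀b θ₀ hθ₀), hw]
      exact hw0 hθ₀h
    nlinarith [mul_self_pos.2 h4]
  set z₀ : Matrix s₀ s₀ ℤ := Matrix.of fun a c => z a c with hz₀
  have hlat := norm_eq_zero_or_ge z₀ hp l
    (Matrix.ext fun a c => hsym a (hs₀b a a.2) c (hs₀b c c.2))
    (Matrix.ext fun a c => by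
      simp only [z₀, Matrix.mul_apply, Matrix.of_apply, Matrix.smul_apply, smul_eq_mul]
      rw [Finset.sum_coe_sort s₀ fun θ => z a θ * z θ c, hsq0 a (hs₀b a a.2) c (hs₀b c c.2), hDp])
    (by
      simp only [z₀, Matrix.trace, Matrix.diag_apply, Matrix.of_apply]
      rw [Finset.sum_coe_sort s₀ fun θ => z θ θ, htr0, hDp])
    (fun a => hh0 a a.2)
    (fun a a' c c' => hone a ((hbs _).1 (hs₀b a a.2)) a' ((hbs _).1 (hs₀b a' a'.2))
      c ((hbs _).1 (hs₀b c c.2)) c' ((hbs _).1 (hs₀b c' c'.2)))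
  -- a preimage of the image vector
  obtain ⟨w, r, hwr⟩ : ∃ w r : ℤ, w * z θ₀ θ₀ + r * (p : ℤ) = 1 :=
    Int.isCoprime_iff_gcd_eq_one.2 ((Int.gcd_comm _ _).trans
      (Int.isCoprime_iff_gcd_eq_one.1 ((Nat.prime_iff_prime_int.1 hp).coprime_iff_not_dvd.2 hθ₀u)))
  set t := w * v θ₀ with ht
  have hcong : ∀ θ ∈ s₀, (p : ℤ) ∣ v θ - t * z θ θ₀ := by
    intro θ hθ
    have hθb := (hbs θ).1 (hs₀b θ hθ)
    have h1 : (p : ℤ) ∣ v θ * z θ₀ θ₀ - z θ θ₀ * v θ₀ := by
      simp only [v, Finset.sum_mul, Finset.mul_sum, ← Finset.sum_sub_distrib]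
      refine Finset.dvd_sum fun η hη => ?_
      have := (hone θ hθb η ((hbs η).1 hη) θ₀ hθ₀b θ₀ hθ₀b).mul_right (u η)
      convert this using 1
      ring
    obtain ⟨x, hx⟩ := h1
    exact ⟨r * v θ + w * x, by rw [ht]; linear_combination w * hx - v θ * hwr⟩
  choose v' hv' using hcong
  set u' : s₀ → ℤ := fun θ => (if (θ : _) = θ₀ then t else 0) + v' θ θ.2 with hu'
  have hzv : ∀ θ ∈ s₀, ∑ a ∈ s₀, z θ a * v a = (p : ℤ) * v θ := by
    intro θ hθ
    simp only [v, Finset.mul_sum]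
    rw [Finset.sum_comm]
    refine Finset.sum_congr rfl fun η hη => ?_
    rw [← mul_assoc, ← hDp, ← hsq0 θ (hs₀b θ hθ) η hη, Finset.sum_mul]
    exact Finset.sum_congr rfl fun a _ => (mul_assoc _ _ _).symm
  have hpre : ∀ θ : s₀, (z₀.mulVec u') θ = v θ := by
    intro θ
    refine mul_left_cancel₀ (Int.natCast_ne_zero.2 hp.ne_zero) ?_
    rw [← hzv θ θ.2]
    simp only [Matrix.mulVec, dotProduct, z₀, Matrix.of_apply, u', mul_add, Finset.sum_add_distrib,
      mul_ite, mul_zero]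
    have hB : ∑ a : s₀, (p : ℤ) * (z θ a * v' a a.2) =
        ∑ a ∈ s₀, z θ a * v a - t * ∑ a ∈ s₀, z θ a * z a θ₀ := by
      rw [Finset.mul_sum, ← Finset.sum_sub_distrib,
        ← Finset.sum_coe_sort s₀ fun a => z θ a * v a - t * (z θ a * z a θ₀)]
      exact Finset.sum_congr rfl fun a _ => by linear_combination (-(z θ a)) * hv' a a.2
    rw [Finset.mul_sum, Finset.mul_sum, hB, hsq0 θ (hs₀b θ θ.2) θ₀ (hs₀b θ₀ hθ₀), hDp,
      Finset.sum_eq_single (⟨θ₀, hθ₀⟩ : s₀) (fun a _ ha => by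
        rw [if_neg fun e => ha (Subtype.ext e), mul_zero]) (by simp), if_pos rfl]
    ring
  have hNeq : dotProduct u' (z₀.mulVec u') = form bs z u u := by
    refine mul_left_cancel₀ (Int.natCast_ne_zero.2 hp.ne_zero) ?_
    rw [show (p : ℤ) * form bs z u u = D * form bs z u u by rw [hDp], hN, dotProduct,
      Finset.mul_sum, Finset.sum_congr rfl fun θ _ => show (p : ℤ) * (u' θ * z₀.mulVec u' θ) =
        u' θ * ∑ a : s₀, z θ a * v a by
          rw [hpre, Finset.sum_coe_sort s₀ fun a => z (θ : _) a * v a, hzv θ θ.2]; ring,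
      ← Finset.sum_coe_sort s₀ fun θ => v θ * v θ]
    simp only [Finset.mul_sum]
    rw [Finset.sum_comm]
    refine Finset.sum_congr rfl fun a _ => ?_
    rw [Finset.sum_congr rfl fun θ _ => show u' θ * (z θ a * v a) = (z₀ a θ * u' θ) * v a by
      rw [← hsym θ (hs₀b θ θ.2) a (hs₀b a a.2)]
      show _ = z a θ * u' θ * v a
      ring, ← Finset.sum_mul]
    exact congrArg (· * v a) (hpre a)
  rw [← hNeq]
  exact hlat u'

end Cfsg.Agent.CharTheory.MajorContrib
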