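import Mathlib
import Cfsg.Agent.BlockCharsA.LocalBlock
import Cfsg.Agent.Lib.CharTheory.MajorContrib.Bounds
import Cfsg.Agent.Lib.CharTheory.MajorContrib.CentralFibre

/-!
# Blocks with a major subsection of cofactor at most `p`

If `(y, b)` is a major subsection of `B`, `y` of order `p ^ k` and `d ≤ k + 1` the defect, then `B`
has at most `p ^ d` irreducible characters.
-/

set_option linter.style.haveILetI false

namespace Cfsg.Agent.CharTheory.MajorContrib

open Cfsg.Agent.Blocks Cfsg.Agent.BlockCharsA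

universe u

variable {G : Type u} [Group G] [Finite G] {p : ℕ} {M : Ideal Cfsg.AlgInt}

theorem card_le_of_cofactor (hM : Cfsg.IsPModular p M) {B : Set (Cfsg.IrrCharacter G)}
    {y : G} {k : ℕ} (hk : orderOf y = p ^ k)
    {b : Set (Cfsg.IrrCharacter (Subgroup.centralizer ({y} : Set G)))}
    (hind : Cfsg.IsInducedBlock M (Subgroup.centralizer ({y} : Set G)) b B)
    (hdef : Cfsg.blockDefect p b = Cfsg.blockDefect p B)
    (hd : Cfsg.blockDefect p B ≤ k + 1) : Nat.card B ≤ p ^ Cfsg.blockDefect p B := by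
  classical
  haveI := Fintype.ofFinite (Cfsg.IrrCharacter G)
  have hn := pow_pos hM.1.pos k
  have hζ := Complex.isPrimitiveRoot_exp (p ^ k) hn.ne'
  obtain ⟨bs, n, e, z, htab, hbs, hz⟩ := exists_table hM hk hζ hind hdef
  have hB := hind.2.1
  set d := Cfsg.blockDefect p B
  set l := Cfsg.blockRank p b
  set T := primitiveRoots (p ^ k) ℂ with hT
  set Bs := Finset.univ.filter (· ∈ B) with hBs
  have hTpos : (0 : ℝ) < (T.card : ℝ) :=
    Nat.cast_pos.2 (Finset.card_pos.2 ⟨_, (mem_primitiveRoots hn).2 hζ⟩)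
  have hmin := form_eq_zero_or_ge hM hk hind.1 hbs z hz d l hd htab.sym htab.sq htab.trace
  rw [show Nat.card B = Bs.card from by rw [Nat.card_eq_fintype_card, Fintype.card_subtype]]
  have hone : ∀ χ ∈ Bs, (T.card : ℝ) ≤ diagSum k bs n e z p χ := fun χ hχ => by
    refine le_trans ?_ (pow_height_mul_card_le_diagSum hM hB hζ htab (Finset.mem_filter.1 hχ).2)
    exact le_mul_of_one_le_left hTpos.le (one_le_pow₀ (Nat.one_le_cast.2 hM.1.one_le))
  have h1 : ∀ χ ∈ Bs, (l : ℝ) * T.card ≤ diagSum k bs n e z p χ := fun χ hχ =>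
    card_mul_le_sum_re bs z n e htab.sym hM.1 hζ l hmin χ (hTpos.trans_le (hone χ hχ))
  have h2 := Finset.card_nsmul_le_sum Bs _ _ h1
  have h3 := Finset.card_nsmul_le_sum Bs _ _ hone
  rw [sum_diagSum hM hB hζ htab, nsmul_eq_mul, ← hT] at h2 h3
  rcases Nat.eq_zero_or_pos l with h0 | h0
  · simp only [h0, Nat.cast_zero, mul_zero] at h3
    have : (Bs.card : ℝ) ≤ 0 := by nlinarith
    exact (Nat.le_zero.1 (by exact_mod_cast this)).le.trans (Nat.zero_le _)
  · have h4 : (Bs.card : ℝ) * l ≤ ((p : ℝ) ^ d) * l := le_of_mul_le_mul_right (by linarith) hTpos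
    have h5 : (Bs.card : ℝ) ≤ ((p ^ d : ℕ) : ℝ) := by
      push_cast
      exact le_of_mul_le_mul_right h4 (Nat.cast_pos.2 h0)
    exact_mod_cast h5

/-- A major subsection at a central element of a defect group. -/
theorem exists_major (hM : Cfsg.IsPModular p M) {B : Set (Cfsg.IrrCharacter G)}
    (hB : Cfsg.IsPBlock M B) {D : Subgroup G} (hD : Cfsg.IsDefectGroup p M B D) {y : G}
    (hyD : y ∈ D) (hyc : ∀ t ∈ D, t * y = y * t) :
    ∃ b : Set (Cfsg.IrrCharacter (Subgroup.centralizer ({y} : Set G))),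
      Cfsg.IsInducedBlock M (Subgroup.centralizer ({y} : Set G)) b B ∧
      Cfsg.blockDefect p b = Cfsg.blockDefect p B := by
  obtain ⟨b, hind, hle⟩ := LocalBlock.exists_induced hM hB hD hyD hyc
  refine ⟨b, hind, le_antisymm ?_ hle⟩
  obtain ⟨E, hE⟩ := exists_defectGroup hM hind.1
  obtain ⟨F, hF, hEF⟩ := exists_defect_le_of_induced hM hind hE
  rw [← Nat.pow_le_pow_iff_right hM.1.one_lt, ← card_defectGroup hM hind.1 hE,
    ← card_defectGroup hM hB hF,
    ← Subgroup.card_map_of_injective (f := (Subgroup.centralizer ({y} : Set G)).subtype)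
      (Subgroup.subtype_injective _)]
  exact Subgroup.card_le_of_le hEF

/-- A nontrivial defect group has an element of order `p` in its centre. -/
theorem exists_central_of_order_prime (hM : Cfsg.IsPModular p M) {B : Set (Cfsg.IrrCharacter G)}
    (hB : Cfsg.IsPBlock M B) (hd : Cfsg.blockDefect p B ≠ 0) {D : Subgroup G}
    (hD : Cfsg.IsDefectGroup p M B D) :
    ∃ y ∈ D, (∀ t ∈ D, t * y = y * t) ∧ orderOf y = p := by
  haveI := fact_prime_of_pm hM
  have hDp := isPGroup_defect hD
  haveI : Nontrivial D := by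
    rw [← Finite.one_lt_card_iff_nontrivial, card_defectGroup hM hB hD]
    exact Nat.one_lt_pow hd hM.1.one_lt
  haveI : Nontrivial (Subgroup.center D) := hDp.center_nontrivial
  have hdvd : p ∣ Nat.card (Subgroup.center D) := by
    obtain ⟨j, hj0, hj⟩ :=
      (hDp.to_subgroup (Subgroup.center D)).nontrivial_iff_card.1 inferInstance
    rw [hj]; exact dvd_pow_self p hj0.ne'
  obtain ⟨w, hw⟩ := exists_prime_orderOf_dvd_card' (G := Subgroup.center D) p hdvd
  refine ⟨((w : D) : G), (w : D).2, fun t ht => ?_, by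
    rw [Subgroup.orderOf_coe, Subgroup.orderOf_coe, hw]⟩
  exact congrArg Subtype.val (Subgroup.mem_center_iff.1 w.2 ⟨t, ht⟩)

end Cfsg.Agent.CharTheory.MajorContrib
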