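import Mathlib
import Cfsg.Agent.S4733
import Cfsg.Agent.Lib.Blocks.QuotientDefect
import Cfsg.Agent.Lib.Blocks.PQuotient
import Cfsg.Agent.Lib.CharTheory.MajorContrib.SmallCofactor

/-!
# The bound of Brauer and Feit on the number of characters of a block
-/

set_option linter.style.haveILetI false

namespace Cfsg.Agent.CharTheory.MajorContrib

open Cfsg.Agent.Blocks Cfsg.Agent.Characters Cfsg.Agent.BlockCharsA
open Cfsg.Agent.BlockCharsA.Subsection

universe u

variable {G : Type u} [Group G] [Finite G] {p : ℕ} {M : Ideal Cfsg.AlgInt}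

/-- The centre-quotient block of a block of a centraliser dominates its rank. -/
theorem exists_quotient_block (hM : Cfsg.IsPModular p M) {y : G} {k : ℕ} (hk : orderOf y = p ^ k)
    {b : Set (Cfsg.IrrCharacter (Subgroup.centralizer ({y} : Set G)))} (hb : Cfsg.IsPBlock M b) :
    ∃ (H : Type u) (_ : Group H) (_ : Finite H) (B' : Set (Cfsg.IrrCharacter H)),
      Cfsg.IsPBlock M B' ∧ Cfsg.blockDefect p B' + k = Cfsg.blockDefect p b ∧
      Cfsg.blockRank p b ≤ Nat.card B' := by
  classical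
  haveI := fact_prime_of_pm hM
  haveI := Fintype.ofFinite (Cfsg.IrrCharacter (Subgroup.centralizer ({y} : Set G)))
  let C := Subgroup.centralizer ({y} : Set G)
  let N : Subgroup C := Subgroup.zpowers (own y)
  haveI : N.Normal := ⟨fun a ha g => by
    obtain ⟨i, rfl⟩ := Subgroup.mem_zpowers_iff.1 ha
    rw [← ((self_commute y g).zpow_left i).eq, mul_inv_cancel_right]
    exact ha⟩
  have hord : orderOf (own y) = p ^ k := by rw [← hk, ← Subgroup.orderOf_coe]; rfl
  have hNp : IsPGroup p N := IsPGroup.of_card (n := k) (by rw [Nat.card_zpowers, hord])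
  have hC : ∃ j : ℕ, (Subgroup.centralizer (N : Set C)).index = p ^ j := ⟨0, by
    rw [pow_zero, Subgroup.index_eq_one, eq_top_iff]
    intro g _ a ha
    obtain ⟨i, rfl⟩ := Subgroup.mem_zpowers_iff.1 ha
    exact ((self_commute y g).zpow_left i).eq⟩
  obtain ⟨B', hB', hsub, hdef⟩ := exists_block_quotient hM hNp hb
  refine ⟨C ⧸ N, inferInstance, inferInstance, B', hB', ?_, ?_⟩
  · obtain ⟨P, hP⟩ := exists_defectGroup hM hb
    have hNP : N ≤ P := normal_le_defect hM hNp hb hP
    have h1 := card_defectGroup hM hB' ((hdef _).2 ⟨P, hP, rfl⟩)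
    have h2 : Nat.card (P.map (QuotientGroup.mk' N)) * Nat.card N = Nat.card P := by
      have h1' := (P.map (QuotientGroup.mk' N)).card_mul_index
      rw [Subgroup.index_map_eq P (QuotientGroup.mk'_surjective N)
        (by rw [QuotientGroup.ker_mk']; exact hNP)] at h1'
      have h3 : Nat.card (C ⧸ N) * Nat.card N = Nat.card C :=
        (Subgroup.card_eq_card_quotient_mul_card_subgroup N).symm
      refine Nat.eq_of_mul_eq_mul_right (Nat.pos_of_ne_zero P.index_ne_zero_of_finite) ?_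
      rw [P.card_mul_index, mul_right_comm, h1', h3]
    rw [h1, card_defectGroup hM hb hP, show Nat.card N = p ^ k by rw [Nat.card_zpowers, hord],
      ← pow_add] at h2
    exact Nat.pow_right_injective hM.1.two_le h2
  · -- the fibre over `1` consists of inflations from `B'`
    set bs := Finset.univ.filter (· ∈ b) with hbs
    have hbs' : ∀ η, η ∈ bs ↔ η ∈ b := fun η => by simp [bs]
    obtain ⟨z, hz, hzs, -, -, -, hpos, -, hzz, hztr⟩ := Contrib.exists_matrix hM hb
    set d := Cfsg.blockDefect p b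
    set l := Cfsg.blockRank p b
    have hsq : ∀ η ∈ bs, ∀ η' ∈ bs, ∑ θ ∈ bs, z η θ * z θ η' = (p : ℤ) ^ d * z η η' :=
      fun η hη η' hη' => by
        rw [← hzz η ((hbs' η).1 hη) η' ((hbs' η').1 hη'),
          ZStar.Principal.finsum_mem_eq_sum_filter]
    have htr : ∑ η ∈ bs, z η η = (p : ℤ) ^ d * l := by
      rw [← hztr, ZStar.Principal.finsum_mem_eq_sum_filter]
    obtain ⟨hf, hft⟩ := fibre_table hM hk hb hbs' z
      (fun η hη η' hη' => hz η ((hbs' η).1 hη) η' ((hbs' η').1 hη')) d l hsq htr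
    set s₀ := bs.filter (fun θ => eps y θ = 1) with hs₀
    have hmem : ∀ θ ∈ s₀, θ ∈ b := fun θ hθ => (hbs' θ).1 (Finset.mem_filter.1 hθ).1
    have hp0 : (0 : ℤ) < (p : ℤ) ^ k := pow_pos (Int.natCast_pos.2 hM.1.pos) k
    have hle : ∀ θ ∈ s₀, (p : ℤ) ^ k * z θ θ ≤ (p : ℤ) ^ d := by
      intro θ hθ
      have h := hf θ (Finset.mem_filter.1 hθ).1 θ (Finset.mem_filter.1 hθ).1
      have h2 : z θ θ * z θ θ ≤ ∑ a ∈ s₀, z θ a * z a θ := by
        rw [Finset.sum_congr rfl fun a ha => by rw [hzs θ (hmem θ hθ) a (hmem a ha)]]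
        exact Finset.single_le_sum (f := fun a => z θ a * z θ a) (fun a _ => mul_self_nonneg _) hθ
      refine le_of_mul_le_mul_right ?_ (hpos θ (hmem θ hθ))
      calc (p : ℤ) ^ k * z θ θ * z θ θ = (p : ℤ) ^ k * (z θ θ * z θ θ) := mul_assoc _ _ _
        _ ≤ _ := mul_le_mul_of_nonneg_left h2 hp0.le
        _ = _ := h
    have hl : (l : ℤ) ≤ s₀.card := by
      have h1 : (p : ℤ) ^ d * l ≤ (p : ℤ) ^ d * s₀.card := by
        rw [← hft, Finset.mul_sum]
        refine (Finset.sum_le_sum hle).trans (le_of_eq ?_)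
        rw [Finset.sum_const, nsmul_eq_mul, mul_comm]
      exact le_of_mul_le_mul_left h1 (pow_pos (Int.natCast_pos.2 hM.1.pos) d)
    refine le_trans (show l ≤ s₀.card by exact_mod_cast hl) ?_
    have hdefl : ∀ θ ∈ s₀, ∃ χ ∈ B', inflIrr χ = θ := by
      intro θ hθ
      have he := (Finset.mem_filter.1 hθ).2
      have hker : ∀ x ∈ N, (θ : C → ℂ) x = (θ : C → ℂ) 1 := by
        intro x hx
        obtain ⟨i, rfl⟩ := (isOfFinOrder_of_finite (own y)).mem_powers_iff_mem_zpowers.2 hx
        have h := value_own_pow θ i 1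
        rw [mul_one, he, one_pow, one_mul] at h
        exact h
      obtain ⟨ψ, -, hψ, hψi⟩ := exists_deflate_quotient N (irr_isCharacter θ) hker
      set χ : Cfsg.IrrCharacter (C ⧸ N) := ⟨ψ, hψi θ.2⟩
      have hinf : inflIrr χ = θ := Subtype.ext (funext hψ)
      refine ⟨χ, ?_, hinf⟩
      obtain ⟨χ₀, hχ₀⟩ := block_nonempty hM hB'
      refine mem_of_sameBlock hM hB' hχ₀ ((sameBlock_inflate_iff hM hNp hC χ₀ χ).2 ?_)
      exact sameBlock_of_mem hM hb (hsub χ₀ hχ₀) (show inflIrr χ ∈ b from hinf ▸ hmem θ hθ)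
    choose g hg hge using hdefl
    rw [← Nat.card_eq_finsetCard]
    exact Nat.card_le_card_of_injective (fun θ : s₀ => (⟨g θ θ.2, hg θ θ.2⟩ : B')) fun θ θ' e =>
      Subtype.ext (by
        have e' : g θ θ.2 = g θ' θ'.2 := congrArg Subtype.val e
        rw [← hge θ θ.2, ← hge θ' θ'.2, e'])

/-- The bound of Brauer and Feit. -/
theorem card_le_pow (hM : Cfsg.IsPModular p M) : ∀ (d : ℕ) (G : Type u) [Group G] [Finite G]
    (B : Set (Cfsg.IrrCharacter G)), Cfsg.IsPBlock M B → Cfsg.blockDefect p B = d →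
    (d ≤ 2 → Nat.card B ≤ p ^ d) ∧ (3 ≤ d → Nat.card B ≤ p ^ (2 * d - 2)) := by
  intro d
  induction d using Nat.strong_induction_on with
  | _ d ih =>
  intro G _ _ B hB hd
  subst hd
  classical
  haveI := fact_prime_of_pm hM
  rcases Nat.eq_zero_or_pos (Cfsg.blockDefect p B) with h0 | h0
  · refine ⟨fun _ => ?_, fun h => by omega⟩
    rw [((S4733.result p M hM B hB).2.1.1 h0).1]
    exact Nat.one_le_pow _ _ hM.1.pos
  obtain ⟨D, hD⟩ := exists_defectGroup hM hB
  obtain ⟨y, hyD, hyc, hy⟩ := exists_central_of_order_prime hM hB h0.ne' hD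
  obtain ⟨b, hind, hdef⟩ := exists_major hM hB hD hyD hyc
  have hy1 : orderOf y = p ^ 1 := by rw [pow_one, hy]
  refine ⟨fun h2 => card_le_of_cofactor hM hy1 hind hdef (by omega), fun h3 => ?_⟩
  set d := Cfsg.blockDefect p B
  by_cases hh : ∀ χ ∈ B, Cfsg.blockHeight p B (χ : G → ℂ) = 0
  · obtain ⟨H, _, _, B', hB', hd', hl⟩ := exists_quotient_block hM hy1 hind.1
    rw [hdef] at hd'
    have hB'le : Nat.card B' ≤ p ^ (2 * d - 4) := by
      have h := ih (d - 1) (by omega) H B' hB' (by omega)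
      rcases Nat.lt_or_ge d 4 with h4 | h4
      · refine (h.1 (by omega)).trans (Nat.pow_le_pow_right hM.1.pos (by omega))
      · exact (h.2 (by omega)).trans (Nat.pow_le_pow_right hM.1.pos (by omega))
    have h1 := Subsection.card_sq_le hM hh ⟨1, hy1⟩ hind
    rw [hdef] at h1
    have h2 : Nat.card B ^ 2 ≤ (p ^ (2 * d - 2)) ^ 2 := by
      refine h1.trans ((Nat.mul_le_mul_left _ (hl.trans hB'le)).trans (le_of_eq ?_))
      rw [← pow_add, ← pow_mul]
      congr 1
      omega
    exact (Nat.pow_le_pow_iff_left two_ne_zero).1 h2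
  · push Not at hh
    obtain ⟨χ, hχ, hne⟩ := hh
    exact le_trans (Nat.le_mul_of_pos_left _ two_pos) (Contrib.two_mul_card_le hM hB hχ hne)

end Cfsg.Agent.CharTheory.MajorContrib
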