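import Mathlib
import Cfsg.Agent.Lib.Blocks.Defect
import Cfsg.Agent.Lib.CharTheory.MajorContrib.Bounds

/-!
# The data of a major subsection
-/

namespace Cfsg.Agent.CharTheory.MajorContrib

open Cfsg.Agent.Blocks

universe u

variable {G : Type u} [Group G] [Finite G] {p : ℕ} {M : Ideal Cfsg.AlgInt}

/-- A major subsection: its element has `p`-power order and its block has full defect. -/
theorem exists_table_of_defectGroup (hM : Cfsg.IsPModular p M) {B : Set (Cfsg.IrrCharacter G)}
    (hB : Cfsg.IsPBlock M B) {D : Subgroup G} (hD : Cfsg.IsDefectGroup p M B D) {z : G}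
    (hzD : z ∈ D) (hzc : ∀ d ∈ D, d * z = z * d)
    {b : Set (Cfsg.IrrCharacter (Subgroup.centralizer ({z} : Set G)))}
    (hb : Cfsg.IsInducedBlock M (Subgroup.centralizer ({z} : Set G)) b B)
    (hbD : Cfsg.IsDefectGroup p M b (D.subgroupOf (Subgroup.centralizer ({z} : Set G))))
    [Fintype (Cfsg.IrrCharacter G)] [DecidablePred (· ∈ B)] :
    ∃ (k : ℕ) (ζ : ℂ) (bs : Finset (Cfsg.IrrCharacter (Subgroup.centralizer ({z} : Set G))))
      (n : Cfsg.IrrCharacter G → Cfsg.IrrCharacter (Subgroup.centralizer ({z} : Set G)) → ℕ)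
      (e : Cfsg.IrrCharacter (Subgroup.centralizer ({z} : Set G)) → ℕ)
      (w : Cfsg.IrrCharacter (Subgroup.centralizer ({z} : Set G)) →
        Cfsg.IrrCharacter (Subgroup.centralizer ({z} : Set G)) → ℤ),
      IsPrimitiveRoot ζ (p ^ k) ∧
        IsTable p M B k ζ (Cfsg.blockDefect p B) (Cfsg.blockRank p b) bs n e w := by
  have hcardD := card_defectGroup hM hB hD
  have hle : D ≤ Subgroup.centralizer ({z} : Set G) := fun d hd =>
    Subgroup.mem_centralizer_singleton_iff.2 (hzc d hd)
  have hdef : Cfsg.blockDefect p b = Cfsg.blockDefect p B := by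
    refine Nat.pow_right_injective hM.1.two_le ?_
    show p ^ _ = p ^ _
    rw [← card_defectGroup hM hb.1 hbD, ← hcardD,
      Nat.card_congr (Subgroup.subgroupOfEquivOfLe hle).toEquiv]
  obtain ⟨k, -, hk⟩ := (Nat.dvd_prime_pow hM.1).1
    (show orderOf z ∣ p ^ Cfsg.blockDefect p B from hcardD ▸ Subgroup.orderOf_dvd_natCard D hzD)
  have hζ := Complex.isPrimitiveRoot_exp (p ^ k) (pow_ne_zero _ hM.1.ne_zero)
  obtain ⟨bs, n, e, w, h, -, -⟩ := exists_table hM hk hζ hb hdef
  exact ⟨k, _, bs, n, e, w, hζ, h⟩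

theorem card_filter_mem {α : Type*} [Fintype α] (B : Set α) [DecidablePred (· ∈ B)] :
    Nat.card B = (Finset.univ.filter (· ∈ B)).card := by
  rw [Nat.card_eq_fintype_card, Fintype.card_subtype]

end Cfsg.Agent.CharTheory.MajorContrib
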